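import Groth.Prelude.Def_Adeq
import Mathlib.Algebra.Category.ModuleCat.Presheaf.EpiMono
import Mathlib.Algebra.Category.ModuleCat.Limits
import Mathlib.Algebra.Category.ModuleCat.Colimits
import Mathlib.Algebra.Homology.ShortComplex.ModuleCat
import Mathlib.CategoryTheory.Abelian.Basic
import Mathlib.LinearAlgebra.TensorProduct.RightExactness

/-!
# Elementwise tools for module-valued functors
-/

universe u

open CategoryTheory Limits TensorProduct

namespace Groth.Agent.H54.Adeq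

variable {A : Type u} [CommRing A]

/-- The value at an algebra. -/
abbrev Val (F : _root_.Adeq.MVF A) (B : _root_.Adeq.Alg A) : Type (u + 1) := F.obj (_root_.Adeq.pt B)

/-- The transition map of values. -/
noncomputable def mp (F : _root_.Adeq.MVF A) {B B' : _root_.Adeq.Alg A} (f : B ⟶ B') :
    Val F B →+ Val F B' := (F.map (_root_.Adeq.ptHom f)).hom.toAddMonoidHom

/-- The components of a morphism. -/
noncomputable def ap {F G : _root_.Adeq.MVF A} (φ : F ⟶ G) (B : _root_.Adeq.Alg A) :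
    Val F B →ₗ[B] Val G B := (φ.app (_root_.Adeq.pt B)).hom

variable {F G H : _root_.Adeq.MVF A} {B B' B'' : _root_.Adeq.Alg A}

lemma mp_id (x : Val F B) : mp F (𝟙 B) x = x := by
  show F.map (_root_.Adeq.ptHom (𝟙 B)) x = x
  rw [F.congr_map_apply (show _root_.Adeq.ptHom (𝟙 B) = 𝟙 _ from rfl)]
  simp
  rfl

lemma mp_comp (f : B ⟶ B') (g : B' ⟶ B'') (x : Val F B) : mp F (f ≫ g) x = mp F g (mp F f x) :=
  F.map_comp_apply (_root_.Adeq.ptHom f) (_root_.Adeq.ptHom g) x

lemma mp_smul (f : B ⟶ B') (b : B) (x : Val F B) : mp F f (b • x) = f.hom b • mp F f x :=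
  F.map_smul (_root_.Adeq.ptHom f) b x

lemma ap_mp (φ : F ⟶ G) (f : B ⟶ B') (x : Val F B) : ap φ B' (mp F f x) = mp G f (ap φ B x) :=
  PresheafOfModules.naturality_apply φ (_root_.Adeq.ptHom f) x

lemma ap_comp (φ : F ⟶ G) (ψ : G ⟶ H) (x : Val F B) : ap (φ ≫ ψ) B x = ap ψ B (ap φ B x) := rfl

lemma ap_id (x : Val F B) : ap (𝟙 F) B x = x := rfl

lemma ap_zero (x : Val F B) : ap (0 : F ⟶ G) B x = 0 := rfl

lemma ap_add (φ ψ : F ⟶ G) (x : Val F B) : ap (φ + ψ) B x = ap φ B x + ap ψ B x := rfl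

lemma ap_sub (φ ψ : F ⟶ G) (x : Val F B) : ap (φ - ψ) B x = ap φ B x - ap ψ B x := rfl

lemma hom_ext {φ ψ : F ⟶ G} (h : ∀ (B : _root_.Adeq.Alg A) (x : Val F B), ap φ B x = ap ψ B x) : φ = ψ :=
  PresheafOfModules.hom_ext fun X => ModuleCat.hom_ext (LinearMap.ext fun x => h X.unop.unop x)

/-- A morphism from a natural family of linear maps. -/
noncomputable def mkHom (f : ∀ B : _root_.Adeq.Alg A, Val F B →ₗ[B] Val G B)
    (h : ∀ ⦃B B' : _root_.Adeq.Alg A⦄ (g : B ⟶ B') (x : Val F B), f B' (mp F g x) = mp G g (f B x)) : F ⟶ G where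
  app X := ModuleCat.ofHom (f X.unop.unop)
  naturality {X Y} g := ModuleCat.hom_ext (LinearMap.ext fun x => h g.unop.unop x)

lemma ap_mkHom (f : ∀ B : _root_.Adeq.Alg A, Val F B →ₗ[B] Val G B) (h) (B : _root_.Adeq.Alg A) (x : Val F B) :
    ap (mkHom (F := F) (G := G) f h) B x = f B x := rfl

lemma injective_ap (φ : F ⟶ G) [Mono φ] (B : _root_.Adeq.Alg A) : Function.Injective (ap φ B) :=
  PresheafOfModules.injective_of_mono φ _

lemma surjective_ap (φ : F ⟶ G) [Epi φ] (B : _root_.Adeq.Alg A) : Function.Surjective (ap φ B) :=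
  PresheafOfModules.surjective_of_epi φ _

lemma mono_of_ap {φ : F ⟶ G} (h : ∀ B, Function.Injective (ap φ B)) : Mono φ :=
  PresheafOfModules.mono_of_injective fun X => h X.unop.unop

lemma epi_of_ap {φ : F ⟶ G} (h : ∀ B, Function.Surjective (ap φ B)) : Epi φ :=
  PresheafOfModules.epi_of_surjective fun X => h X.unop.unop

lemma exact_ap (S : ShortComplex (_root_.Adeq.MVF A)) (hS : S.Exact) (B : _root_.Adeq.Alg A) :
    Function.Exact (ap S.f B) (ap S.g B) := by
  have : (PresheafOfModules.evaluation.{u + 1} (_root_.Adeq.ringOf A) (_root_.Adeq.pt B)).Additive := { }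
  have : PreservesFiniteLimits (PresheafOfModules.evaluation.{u + 1} (_root_.Adeq.ringOf A) (_root_.Adeq.pt B)) :=
    PresheafOfModules.evaluation_preservesFiniteLimits.{u + 1} _ _
  have : PreservesFiniteColimits (PresheafOfModules.evaluation.{u + 1} (_root_.Adeq.ringOf A) (_root_.Adeq.pt B)) :=
    PresheafOfModules.Finite.evaluation_preservesFiniteColimits.{u + 1} _ _
  exact (ShortComplex.ShortExact.moduleCat_exact_iff_function_exact _).mp
    (hS.map (PresheafOfModules.evaluation.{u + 1} (_root_.Adeq.ringOf A) (_root_.Adeq.pt B)))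

lemma exists_kernel_preimage (φ : F ⟶ G) (y : Val F B) (hy : ap φ B y = 0) :
    ∃ x, ap (kernel.ι φ) B x = y :=
  ((exact_ap _ (ShortComplex.exact_of_f_is_kernel (ShortComplex.mk (kernel.ι φ) φ (kernel.condition φ))
    (kernelIsKernel φ)) B) y).mp hy

lemma exists_cokernel_preimage (φ : F ⟶ G) (y : Val G B) (hy : ap (cokernel.π φ) B y = 0) :
    ∃ x, ap φ B x = y :=
  ((exact_ap _ (ShortComplex.exact_of_g_is_cokernel (ShortComplex.mk φ (cokernel.π φ) (cokernel.condition φ))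
    (cokernelIsCokernel φ)) B) y).mp hy

/-- The values of the functor attached to a module. -/
noncomputable abbrev U (M : ModuleCat.{u + 1} A) : _root_.Adeq.MVF A := (_root_.Adeq.underline A).obj M

/-- The morphism attached to a linear map. -/
noncomputable abbrev Um {M N : ModuleCat.{u + 1} A} (g : M ⟶ N) : U M ⟶ U N := (_root_.Adeq.underline A).map g

lemma mp_U (M : ModuleCat.{u + 1} A) (f : B ⟶ B') (x : B ⊗[A] M) :
    mp (U M) f (x : Val (U M) B) = (f.hom.toLinearMap.rTensor M x : B' ⊗[A] M) := rfl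

lemma ap_Um {M N : ModuleCat.{u + 1} A} (g : M ⟶ N) (x : B ⊗[A] M) :
    ap (Um g) B (x : Val (U M) B) = (g.hom.lTensor (B : Type u) x : B ⊗[A] N) := rfl

/-- `F` is embedded in the functor of `M` as the kernel of `g`. -/
structure IsKer {M N : ModuleCat.{u + 1} A} (ι : F ⟶ U M) (g : M ⟶ N) : Prop where
  inj : ∀ B, Function.Injective (ap ι B)
  exact : ∀ B, Function.Exact (ap ι B) (ap (Um g) B)

lemma IsKer.comp_eq_zero {M N : ModuleCat.{u + 1} A} {ι : F ⟶ U M} {g : M ⟶ N} (h : IsKer ι g) :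
    ι ≫ Um g = 0 :=
  hom_ext fun B x => (h.exact B).apply_apply_eq_zero x

lemma isKer_kernel {M N : ModuleCat.{u + 1} A} (g : M ⟶ N) : IsKer (kernel.ι (Um g)) g where
  inj B := injective_ap _ B
  exact B y := ⟨exists_kernel_preimage (Um g) y, by
    rintro ⟨x, rfl⟩
    rw [← ap_comp, kernel.condition, ap_zero]⟩

lemma exists_isKer (hF : _root_.Adeq.adequate A F) :
    ∃ (M N : ModuleCat.{u + 1} A) (g : M ⟶ N) (ι : F ⟶ U M), IsKer ι g := by
  obtain ⟨M, N, g, ⟨e⟩⟩ := hF
  refine ⟨M, N, g, e.hom ≫ kernel.ι (Um g), ⟨fun B => (injective_ap (kernel.ι (Um g)) B).comp (injective_ap e.hom B), fun B y => ?_⟩⟩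
  constructor
  · intro hy
    obtain ⟨x, hx⟩ := ((isKer_kernel g).exact B y).mp hy
    obtain ⟨x', rfl⟩ := surjective_ap e.hom B x
    exact ⟨x', hx⟩
  · rintro ⟨x, rfl⟩
    exact ((isKer_kernel g).exact B).apply_apply_eq_zero _

lemma IsKer.adequate {M N : ModuleCat.{u + 1} A} {ι : F ⟶ U M} {g : M ⟶ N} (h : IsKer ι g) :
    _root_.Adeq.adequate A F := by
  let θ : F ⟶ kernel (Um g) := kernel.lift _ ι h.comp_eq_zero
  have hθ : ∀ B x, ap (kernel.ι (Um g)) B (ap θ B x) = ap ι B x := fun B x => by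
    rw [← ap_comp, kernel.lift_ι]
  have : Mono θ := mono_of_ap fun B x y e => h.inj B (by rw [← hθ, ← hθ, e])
  have : Epi θ := epi_of_ap fun B z => by
    obtain ⟨x, hx⟩ := (h.exact B (ap (kernel.ι (Um g)) B z)).mp (((isKer_kernel g).exact B).apply_apply_eq_zero z)
    exact ⟨x, injective_ap (kernel.ι (Um g)) B ((hθ B x).trans hx)⟩
  have : IsIso θ := isIso_of_mono_of_epi θ
  exact ⟨M, N, g, ⟨asIso θ⟩⟩

end Groth.Agent.H54.Adeq
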