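import Groth.Agent.H54.Adeq.Flat
import Groth.Agent.H54.Adeq.Basic
import Mathlib.RingTheory.TensorProduct.Maps

/-!
# Adequate functors and flat base change
-/

universe u

open CategoryTheory Limits TensorProduct

namespace Groth.Agent.H54.Adeq

variable {A : Type u} [CommRing A]

section

variable {B B' : _root_.Adeq.Alg A} (f : B ⟶ B')

lemma bc_tmul (F : _root_.Adeq.MVF A) (s : B') (x : Val F B) :
    letI : Algebra B B' := f.hom.toRingHom.toAlgebra
    (F.bc f).hom (s ⊗ₜ[B] x) = s • mp F f x := by
  letI : Algebra B B' := f.hom.toRingHom.toAlgebra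
  rw [← bc_one_tmul F f x]
  refine Eq.trans ?_ ((F.bc f).hom.map_smul s _)
  congr 1
  exact (congrArg (fun t : B' => t ⊗ₜ[B] x) (mul_one s)).symm

end

theorem isIso_bc {F : _root_.Adeq.MVF A} (hF : _root_.Adeq.adequate A F) {B B' : _root_.Adeq.Alg A} (f : B ⟶ B')
    (hf : f.hom.toRingHom.Flat) : IsIso (F.bc f) := by
  obtain ⟨M, N, g, ι, hι⟩ := exists_isKer hF
  letI : Algebra B B' := f.hom.toRingHom.toAlgebra
  haveI : Module.Flat B B' := hf
  haveI : IsScalarTower A B B' := IsScalarTower.of_algebraMap_eq fun a => (f.hom.commutes a).symm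
  let cM : (B' : Type u) ⊗[(B : Type u)] ((B : Type u) ⊗[A] M) ≃ₗ[(B' : Type u)] (B' : Type u) ⊗[A] M :=
    TensorProduct.AlgebraTensorModule.cancelBaseChange A B B' B' M
  let cN : (B' : Type u) ⊗[(B : Type u)] ((B : Type u) ⊗[A] N) ≃ₗ[(B' : Type u)] (B' : Type u) ⊗[A] N :=
    TensorProduct.AlgebraTensorModule.cancelBaseChange A B B' B' N
  let ι₀ : Val F B →ₗ[(B : Type u)] (B : Type u) ⊗[A] M := ap ι B
  let g₀ : (B : Type u) ⊗[A] M →ₗ[(B : Type u)] (B : Type u) ⊗[A] N := g.hom.baseChange B
  have hmp : ∀ x : (B : Type u) ⊗[A] M, ∀ s : B', cM (s ⊗ₜ x) = s • (f.hom.toLinearMap.rTensor M x) := by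
    intro x s
    induction x using TensorProduct.induction_on with
    | zero => simp
    | tmul b m =>
      rw [LinearMap.rTensor_tmul, TensorProduct.smul_tmul']
      refine (TensorProduct.AlgebraTensorModule.cancelBaseChange_tmul _ _ _ _ _ _).trans ?_
      congr 1
      exact (Algebra.smul_def (R := (B : Type u)) (A := (B' : Type u)) b s).trans (mul_comm _ _)
    | add x y hx hy => rw [TensorProduct.tmul_add, map_add, hx, hy, map_add, smul_add]
  have hsq : ∀ z : (B' : Type u) ⊗[(B : Type u)] Val F B,
      (ap ι B' ((F.bc f).hom z) : (B' : Type u) ⊗[A] M) = cM (ι₀.lTensor (B' : Type u) z) := by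
    intro z
    induction z using TensorProduct.induction_on with
    | zero => exact (congrArg (ap ι B') (map_zero (F.bc f).hom)).trans ((map_zero _).trans (by simp; rfl))
    | tmul s x =>
      refine (congrArg (ap ι B') (bc_tmul f F s x)).trans ?_
      rw [map_smul, ap_mp, LinearMap.lTensor_tmul, hmp]
      rfl
    | add x y hx hy =>
      refine (congrArg (ap ι B') (map_add (F.bc f).hom x y)).trans ?_
      rw [map_add, map_add, map_add, ← hx, ← hy]
      rfl
  have hsqN : ∀ w, g.hom.lTensor (B' : Type u) (cM w) = cN (g₀.lTensor (B' : Type u) w) := by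
    intro w
    induction w using TensorProduct.induction_on with
    | zero => simp
    | tmul s x =>
      induction x using TensorProduct.induction_on with
      | zero => simp
      | tmul b m => simp [cM, cN, g₀]
      | add x y hx hy => simp only [TensorProduct.tmul_add, map_add, hx, hy]
    | add x y hx hy => simp only [map_add, hx, hy]
  have hinj : Function.Injective (ι₀.lTensor (B' : Type u)) :=
    Module.Flat.lTensor_preserves_injective_linearMap ι₀ (hι.inj B)
  have hex : Function.Exact (ι₀.lTensor (B' : Type u)) (g₀.lTensor (B' : Type u)) :=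
    Module.Flat.lTensor_exact (B' : Type u) (hι.exact B)
  refine (ConcreteCategory.isIso_iff_bijective _).2 ⟨fun z z' h => hinj (cM.injective ?_), fun y => ?_⟩
  · rw [← hsq, ← hsq]
    exact congrArg (ap ι B') h
  · obtain ⟨w, hw⟩ := cM.surjective (ap ι B' y)
    have h0 : g₀.lTensor (B' : Type u) w = 0 := by
      apply cN.injective
      rw [← hsqN, hw, map_zero]
      exact (hι.exact B').apply_apply_eq_zero y
    obtain ⟨z, hz⟩ := (hex w).mp h0
    exact ⟨z, hι.inj B' ((hsq z).trans ((congrArg cM hz).trans hw))⟩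

end Groth.Agent.H54.Adeq
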