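import Groth.Agent.H54.Adeq.Cover
import Mathlib.Algebra.Category.ModuleCat.Presheaf.Colimits

/-!
# Colimits of adequate functors
-/

universe u

open CategoryTheory Limits TensorProduct
open scoped DirectSum

namespace Groth.Agent.H54.Adeq

variable {A : Type u} [CommRing A]

lemma iSup_range_eq_top {I : Type (u + 1)} (F : I → _root_.Adeq.MVF A) (B : _root_.Adeq.Alg A) :
    ⨆ i, LinearMap.range (ap (Sigma.ι F i) B) = ⊤ := by
  let S : Submodule B (Val (∐ F) B) := ⨆ i, LinearMap.range (ap (Sigma.ι F i) B)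
  by_contra hne
  let q : (PresheafOfModules.evaluation.{u + 1} (_root_.Adeq.ringOf A) (_root_.Adeq.pt B)).obj (∐ F) ⟶
      ModuleCat.of B (Val (∐ F) B ⧸ S) := ModuleCat.ofHom S.mkQ
  have hq : q = 0 := by
    haveI : PreservesColimitsOfShape (Discrete I)
        (PresheafOfModules.evaluation.{u + 1} (_root_.Adeq.ringOf A) (_root_.Adeq.pt B)) :=
      PresheafOfModules.evaluation_preservesColimitsOfShape.{u + 1} (R := _root_.Adeq.ringOf A) (J := Discrete I) _
    refine (isColimitOfPreserves (PresheafOfModules.evaluation.{u + 1} (_root_.Adeq.ringOf A) (_root_.Adeq.pt B))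
      (coproductIsCoproduct F)).hom_ext fun ⟨i⟩ => ?_
    refine ModuleCat.hom_ext (LinearMap.ext fun x => ?_)
    show S.mkQ (ap (Sigma.ι F i) B x) = 0
    exact (Submodule.Quotient.mk_eq_zero S).2 (Submodule.mem_iSup_of_mem i ⟨x, rfl⟩)
  exact hne (eq_top_iff.2 fun x _ => (Submodule.Quotient.mk_eq_zero S).1 (congrArg (fun m => m.hom x) hq))

lemma covered_sigma {I : Type (u + 1)} (F : I → _root_.Adeq.MVF A) (h : ∀ i, Covered (F i)) : Covered (∐ F) := by
  intro B S hS x
  have htop : (⊤ : Submodule B (Val (∐ F) B)) ≤ S := by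
    rw [← iSup_range_eq_top F B, iSup_le_iff]
    rintro i _ ⟨y, rfl⟩
    exact h i B (S.comap (ap (Sigma.ι F i) B)) (fun d χ k => hS d (χ ≫ Sigma.ι F i) k) y
  exact htop Submodule.mem_top

lemma adequate_sigma {I : Type (u + 1)} (F : I → _root_.Adeq.MVF A) (h : ∀ i, _root_.Adeq.adequate A (F i)) :
    _root_.Adeq.adequate A (∐ F) := by
  classical
  choose M N g ι hι using fun i => exists_isKer (h i)
  let Z : ModuleCat.{u + 1} A := ModuleCat.of A (⨁ i, (M i : Type (u + 1)))
  let l : ∀ i, M i ⟶ Z := fun i => ModuleCat.ofHom (DirectSum.lof A I (fun i => (M i : Type (u + 1))) i)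
  let θ : (∐ F) ⟶ U Z := Sigma.desc fun i => ι i ≫ Um (l i)
  have : Mono θ := mono_of_ap fun B => (injective_iff_map_eq_zero _).2 fun x hx => by
    have hx' : x ∈ ⨆ i, LinearMap.range (ap (Sigma.ι F i) B) := by rw [iSup_range_eq_top]; exact Submodule.mem_top
    obtain ⟨f, hf, rfl⟩ := (Submodule.mem_iSup_iff_exists_finsupp _ _).1 hx'
    choose y hy using hf
    refine Finset.sum_eq_zero fun i hi => ?_
    rw [← hy i]
    suffices y i = 0 by rw [this, map_zero]
    apply (hι i).inj B
    rw [map_zero]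
    rw [Finsupp.sum, map_sum] at hx
    obtain ⟨z, hz0⟩ : ∃ z : ∀ j, (B : Type u) ⊗[A] (M j), ∀ j, z j = ap (ι j) B (y j) := ⟨_, fun _ => rfl⟩
    have h1 : ∀ j, ap θ B (f j) = ((DirectSum.lof A I (fun i => (M i : Type (u + 1))) j).lTensor (B : Type u)
        (z j) : (B : Type u) ⊗[A] Z) := fun j => by
      rw [hz0 j, ← hy j, ← ap_comp]
      exact congrArg (fun m => ap m B (y j)) (Sigma.ι_desc (fun i => ι i ≫ Um (l i)) j)
    have h3 : ∑ j ∈ f.support, (DirectSum.lof A I (fun i => (M i : Type (u + 1))) j).lTensor (B : Type u) (z j) = 0 :=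
      (Finset.sum_congr rfl fun j _ => (h1 j).symm).trans hx
    have h2 := congrArg ((DirectSum.component A I (fun i => (M i : Type (u + 1))) i).lTensor (B : Type u)) h3
    rw [map_zero, map_sum, Finset.sum_eq_single i] at h2
    · rw [← LinearMap.lTensor_comp_apply] at h2
      have hid : (DirectSum.component A I (fun i => (M i : Type (u + 1))) i).comp
          (DirectSum.lof A I (fun i => (M i : Type (u + 1))) i) = LinearMap.id :=
        LinearMap.ext fun v => DirectSum.component.lof_self A (M := fun i => (M i : Type (u + 1))) i v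
      rw [hid, LinearMap.lTensor_id] at h2
      exact (hz0 i).symm.trans h2
    · intro j _ hji
      rw [← LinearMap.lTensor_comp_apply]
      have hz : (DirectSum.component A I (fun i => (M i : Type (u + 1))) i).comp
          (DirectSum.lof A I (fun i => (M i : Type (u + 1))) j) = 0 :=
        LinearMap.ext fun v => (DirectSum.component.of A (M := fun i => (M i : Type (u + 1))) i j v).trans (dif_neg hji)
      rw [hz, LinearMap.lTensor_zero]
      rfl
    · exact fun h0 => absurd hi h0
  exact (covered_sigma F fun i => covered_of_adequate (h i)).adequate θ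

lemma adequate_colimit {J : Type (u + 1)} [SmallCategory J] (D : J ⥤ _root_.Adeq.MVF A)
    (hD : ∀ j, _root_.Adeq.adequate A (D.obj j)) : _root_.Adeq.adequate A (colimit D) := by
  let K := Σ i j : J, (i ⟶ j)
  let Φ : (∐ fun k : K => D.obj k.1) ⟶ ∐ D.obj :=
    Sigma.desc fun k => D.map k.2.2 ≫ Sigma.ι D.obj k.2.1 - Sigma.ι D.obj k.1
  have hΦ := adequate_cokernel Φ (covered_sigma _ fun k : K => covered_of_adequate (hD k.1)) (adequate_sigma _ hD)
  let c : Cocone D :=
    { pt := cokernel Φ
      ι := { app := fun j => Sigma.ι D.obj j ≫ cokernel.π Φ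
             naturality := fun i j f => by
              have h := (Sigma.ι (fun k : K => D.obj k.1) ⟨i, j, f⟩) ≫= cokernel.condition Φ
              rw [comp_zero, ← Category.assoc, show Sigma.ι (fun k : K => D.obj k.1) ⟨i, j, f⟩ ≫ Φ =
                D.map f ≫ Sigma.ι D.obj j - Sigma.ι D.obj i from Sigma.ι_desc _ _, Preadditive.sub_comp,
                sub_eq_zero, Category.assoc] at h
              simpa using h } }
  have hπ : Φ ≫ Sigma.desc (fun j => colimit.ι D j) = 0 := by
    refine Sigma.hom_ext _ _ fun k => ?_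
    rw [← Category.assoc, show Sigma.ι (fun k : K => D.obj k.1) k ≫ Φ =
      D.map k.2.2 ≫ Sigma.ι D.obj k.2.1 - Sigma.ι D.obj k.1 from Sigma.ι_desc _ _, Preadditive.sub_comp,
      Category.assoc, Sigma.ι_desc, Sigma.ι_desc, colimit.w, sub_self, comp_zero]
  let e : colimit D ≅ cokernel Φ :=
    { hom := colimit.desc D c
      inv := cokernel.desc Φ _ hπ
      hom_inv_id := colimit.hom_ext fun j => by simp [c]
      inv_hom_id := coequalizer.hom_ext (Sigma.hom_ext _ _ fun j => by simp [c]) }
  exact (_root_.Adeq.adequate A).prop_of_iso e.symm hΦ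

end Groth.Agent.H54.Adeq
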