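import Groth.Agent.H54.Adeq.Lin
import Mathlib.LinearAlgebra.Finsupp.LinearCombination
import Mathlib.LinearAlgebra.DirectSum.TensorProduct
import Mathlib.LinearAlgebra.StdBasis
import Mathlib.LinearAlgebra.TensorProduct.Finiteness
import Mathlib.LinearAlgebra.FreeModule.Finite.Basic

/-!
# Covering adequate functors by linearly adequate ones
-/

universe u

open CategoryTheory Limits TensorProduct
open scoped DirectSum

namespace Groth.Agent.H54.Adeq

variable {A : Type u} [CommRing A]

/-- A map between finite free modules, as a small piece of data. -/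
structure Datum (A : Type u) [CommRing A] : Type u where
  n : ℕ
  m : ℕ
  f : (Fin n → A) →ₗ[A] (Fin m → A)

namespace Datum

variable (d : Datum A)

/-- The source. -/
noncomputable abbrev P : ModuleCat.{u + 1} A := ModuleCat.of A (ULift.{u + 1} (Fin d.n → A))

/-- The target. -/
noncomputable abbrev P' : ModuleCat.{u + 1} A := ModuleCat.of A (ULift.{u + 1} (Fin d.m → A))

/-- The map. -/
noncomputable def hom : d.P ⟶ d.P' :=
  ModuleCat.ofHom (ULift.moduleEquiv.symm.toLinearMap ∘ₗ d.f ∘ₗ ULift.moduleEquiv.toLinearMap)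

/-- The standard basis of the source. -/
noncomputable def basis : Module.Basis (Fin d.n) A d.P := (Pi.basisFun A (Fin d.n)).map ULift.moduleEquiv.symm

/-- The standard basis of the target. -/
noncomputable def basis' : Module.Basis (Fin d.m) A d.P' := (Pi.basisFun A (Fin d.m)).map ULift.moduleEquiv.symm

/-- The linearly adequate functor of a datum. -/
noncomputable abbrev L : _root_.Adeq.MVF A := kernel (Um d.hom)

lemma linAdequate : _root_.Adeq.linAdequate A d.L :=
  ⟨d.P, d.P', d.hom, Module.Finite.of_basis d.basis, Module.Free.of_basis d.basis,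
    Module.Finite.of_basis d.basis', Module.Free.of_basis d.basis', ⟨Iso.refl _⟩⟩

lemma adequate : _root_.Adeq.adequate A d.L := ⟨d.P, d.P', d.hom, ⟨Iso.refl _⟩⟩

lemma exists_extension {M : ModuleCat.{u + 1} A} (η : d.L ⟶ U M) :
    ∃ g : d.P ⟶ M, kernel.ι (Um d.hom) ≫ Um g = η :=
  Adeq.exists_extension d.basis d.basis' (isKer_kernel d.hom) η

end Datum

lemma exists_ker_lift (Q : Type u) [AddCommGroup Q] [Module A Q] {L N : Type (u + 1)} [AddCommGroup L] [AddCommGroup N]
    [Module A L] [Module A N] (π : L →ₗ[A] N) (hπ : Function.Surjective π) (y : Q ⊗[A] L)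
    (hy : π.lTensor Q y = 0) : ∃ w, (LinearMap.ker π).subtype.lTensor Q w = y :=
  ((lTensor_exact Q (LinearMap.exact_subtype_ker_map π) hπ) y).mp hy

/-- Every vanishing in a scalar extension comes from a map of finite free modules. -/
theorem exists_datum {M N : ModuleCat.{u + 1} A} (g : M ⟶ N) {B : _root_.Adeq.Alg A} (x : B ⊗[A] M)
    (hx : g.hom.lTensor (B : Type u) x = 0) :
    ∃ (d : Datum A) (gP : d.P ⟶ M) (gP' : d.P' ⟶ N) (z : B ⊗[A] d.P),
      d.hom ≫ gP' = gP ≫ g ∧ gP.hom.lTensor (B : Type u) z = x ∧ d.hom.hom.lTensor (B : Type u) z = 0 := by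
  classical
  obtain ⟨S, rfl⟩ := TensorProduct.exists_finset x
  let π : (N →₀ A) →ₗ[A] N := Finsupp.linearCombination A id
  let y : (B : Type u) ⊗[A] (N →₀ A) := ∑ i ∈ S, i.1 ⊗ₜ[A] Finsupp.single (g i.2) 1
  have hy : π.lTensor (B : Type u) y = 0 := by
    rw [← hx]
    simp [y, π, map_sum]
  have hπ : Function.Surjective π := fun v =>
    ⟨Finsupp.single v (1 : A), (Finsupp.linearCombination_single A (1 : A) v).trans (one_smul A _)⟩
  obtain ⟨w, hw⟩ := exists_ker_lift (B : Type u) π hπ y hy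
  obtain ⟨T, rfl⟩ := TensorProduct.exists_finset w
  let U₀ : Finset N := S.image (fun i => g i.2) ∪ T.biUnion (fun k => (k.2 : N →₀ A).support)
  let eS := S.equivFin.symm
  let eT := T.equivFin.symm
  let eU := U₀.equivFin.symm
  let p : Fin U₀.card → N := fun u => eU u
  have hp : Function.Injective p := Subtype.val_injective.comp eU.injective
  let emb : (Fin U₀.card → A) →ₗ[A] (N →₀ A) :=
    Finsupp.lmapDomain A A p ∘ₗ (Finsupp.linearEquivFunOnFinite A A _).symm.toLinearMap
  have hemb : ∀ v : N →₀ A, v.support ⊆ U₀ → emb (fun u => v (p u)) = v := by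
    intro v hv
    ext q
    show Finsupp.mapDomain p ((Finsupp.linearEquivFunOnFinite A A _).symm fun u => v (p u)) q = v q
    by_cases hq : q ∈ Set.range p
    · obtain ⟨u, rfl⟩ := hq
      rw [Finsupp.mapDomain_apply hp]
      rfl
    · rw [Finsupp.mapDomain_of_notMem_range _ _ hq]
      by_contra h0
      have : q ∈ U₀ := hv (Finsupp.mem_support_iff.2 (Ne.symm h0))
      exact hq ⟨eU.symm ⟨q, this⟩, by simp [p]⟩
  have hembinj : Function.Injective emb :=
    (Finsupp.mapDomain_injective hp).comp (LinearEquiv.injective _)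
  let col : Fin (S.card + T.card) → (N →₀ A) :=
    Fin.addCases (fun i => Finsupp.single (g (eS i).1.2) 1) (fun k => ((eT k).1.2 : N →₀ A))
  have hcol : ∀ i, emb (fun u => col i (p u)) = col i := by
    intro i
    apply hemb
    induction i using Fin.addCases with
    | left i =>
      simp only [col, Fin.addCases_left]
      exact (Finsupp.support_single_subset).trans
        (Finset.singleton_subset_iff.2 (Finset.mem_union_left _ (Finset.mem_image_of_mem _ (eS i).2)))
    | right k =>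
      simp only [col, Fin.addCases_right]
      exact fun q hq => Finset.mem_union_right _ (Finset.mem_biUnion.2 ⟨_, (eT k).2, hq⟩)
  let mv : Fin (S.card + T.card) → M := Fin.addCases (fun i => (eS i).1.2) (fun _ => 0)
  have hmv : ∀ i, π (col i) = g (mv i) := by
    intro i
    induction i using Fin.addCases with
    | left i => simp [col, mv, π]
    | right k =>
      simp only [col, mv, Fin.addCases_right, map_zero]
      exact LinearMap.mem_ker.1 (eT k).1.2.2
  let d : Datum A := ⟨S.card + T.card, U₀.card, (Pi.basisFun A _).constr A (fun i u => col i (p u))⟩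
  let b : Fin (S.card + T.card) → B := Fin.addCases (fun i => (eS i).1.1) (fun k => -(eT k).1.1)
  let gP : d.P ⟶ M := ModuleCat.ofHom (d.basis.constr A mv)
  let gP' : d.P' ⟶ N := ModuleCat.ofHom (π ∘ₗ emb ∘ₗ ULift.moduleEquiv.toLinearMap)
  have hd : ∀ i, ((ULift.moduleEquiv : d.P' ≃ₗ[A] (Fin U₀.card → A)) (d.hom (d.basis i))) = fun u => col i (p u) := by
    intro i
    show ((Pi.basisFun A (Fin (S.card + T.card))).constr A (fun i u => col i (p u))) ((Pi.basisFun A (Fin (S.card + T.card))) i) = _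
    exact Module.Basis.constr_basis _ _ _ _
  refine ⟨d, gP, gP', ∑ i, b i ⊗ₜ[A] d.basis i, ?_, ?_, ?_⟩
  · refine ModuleCat.hom_ext (d.basis.ext fun i => ?_)
    show π (emb ((ULift.moduleEquiv : d.P' ≃ₗ[A] (Fin U₀.card → A)) (d.hom (d.basis i)))) = g (gP (d.basis i))
    rw [hd, hcol, hmv]
    simp [gP]
  · rw [map_sum]
    simp only [LinearMap.lTensor_tmul, gP, ModuleCat.hom_ofHom, Module.Basis.constr_basis]
    show ∑ i : Fin (S.card + T.card), b i ⊗ₜ[A] mv i = _
    rw [Fin.sum_univ_add]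
    simp only [b, mv, Fin.addCases_left, Fin.addCases_right, TensorProduct.tmul_zero, Finset.sum_const_zero, add_zero]
    rw [Equiv.sum_comp eS (fun i : S => i.1.1 ⊗ₜ[A] i.1.2)]
    exact Finset.sum_coe_sort S (fun i => i.1 ⊗ₜ[A] i.2)
  · have hinj : Function.Injective ((emb ∘ₗ ULift.moduleEquiv.toLinearMap : d.P' →ₗ[A] (N →₀ A)).lTensor (B : Type u)) := by
      let r : (N →₀ A) →ₗ[A] d.P' :=
        ULift.moduleEquiv.symm.toLinearMap ∘ₗ LinearMap.pi fun u => Finsupp.lapply (p u)
      have hr : r ∘ₗ (emb ∘ₗ ULift.moduleEquiv.toLinearMap) = LinearMap.id := by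
        refine LinearMap.ext fun v => ULift.ext _ _ (funext fun u => ?_)
        show Finsupp.mapDomain p ((Finsupp.linearEquivFunOnFinite A A _).symm (ULift.moduleEquiv v)) (p u) = _
        rw [Finsupp.mapDomain_apply hp]
        rfl
      refine Function.LeftInverse.injective (g := r.lTensor (B : Type u)) fun z => ?_
      rw [← LinearMap.lTensor_comp_apply, hr, LinearMap.lTensor_id, LinearMap.id_apply]
    apply hinj
    rw [map_zero, ← LinearMap.lTensor_comp_apply, map_sum]
    have hc : ∀ i, (emb ((ULift.moduleEquiv : d.P' ≃ₗ[A] (Fin U₀.card → A)) (d.hom (d.basis i)))) = col i := fun i => by rw [hd, hcol]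
    simp only [LinearMap.lTensor_tmul, LinearMap.comp_apply, LinearEquiv.coe_coe]
    calc ∑ i, b i ⊗ₜ[A] emb ((ULift.moduleEquiv : d.P' ≃ₗ[A] (Fin U₀.card → A)) (d.hom.hom (d.basis i)))
        = ∑ i : Fin (S.card + T.card), b i ⊗ₜ[A] col i := Finset.sum_congr rfl fun i _ => by rw [← hc i]
      _ = y - (LinearMap.ker π).subtype.lTensor (B : Type u) (∑ k ∈ T, k.1 ⊗ₜ[A] k.2) := by
        rw [Fin.sum_univ_add]
        simp only [b, col, Fin.addCases_left, Fin.addCases_right, TensorProduct.neg_tmul, Finset.sum_neg_distrib, map_sum,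
          LinearMap.lTensor_tmul, Submodule.subtype_apply]
        rw [Equiv.sum_comp eS (fun i : S => i.1.1 ⊗ₜ[A] Finsupp.single (g i.1.2) (1 : A)),
          Equiv.sum_comp eT (fun i : T => i.1.1 ⊗ₜ[A] (i.1.2 : N →₀ A)), ← sub_eq_add_neg]
        exact congrArg₂ (· - ·) (Finset.sum_coe_sort S (fun i => i.1 ⊗ₜ[A] Finsupp.single (g i.2) (1 : A)))
          (Finset.sum_coe_sort T (fun k => k.1 ⊗ₜ[A] (k.2 : N →₀ A)))
      _ = 0 := by rw [hw, sub_self]

/-- The span of the images of linearly adequate functors is everything. -/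
def Covered (F : _root_.Adeq.MVF A) : Prop :=
  ∀ (B : _root_.Adeq.Alg A) (S : Submodule B (Val F B)),
    (∀ (d : Datum A) (χ : d.L ⟶ F) (k : Val d.L B), ap χ B k ∈ S) → ∀ x, x ∈ S

variable {F G : _root_.Adeq.MVF A}

/-- Every element of an adequate functor comes from a linearly adequate one. -/
theorem IsKer.exists_lift {M N : ModuleCat.{u + 1} A} {ι : F ⟶ U M} {g : M ⟶ N} (h : IsKer ι g)
    {B : _root_.Adeq.Alg A} (x : Val F B) :
    ∃ (d : Datum A) (χ : d.L ⟶ F) (k : Val d.L B), ap χ B k = x := by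
  obtain ⟨d, gP, gP', z, hc, hz, hz0⟩ := exists_datum g (ap ι B x) ((h.exact B).apply_apply_eq_zero x)
  obtain ⟨k, hk⟩ := ((isKer_kernel d.hom).exact B z).mp hz0
  obtain ⟨e, he, hm⟩ : ∃ e : F ⟶ kernel (Um g), e ≫ kernel.ι (Um g) = ι ∧ IsIso e := by
    refine ⟨kernel.lift _ ι h.comp_eq_zero, kernel.lift_ι _ _ _, ?_⟩
    have hθ : ∀ B x, ap (kernel.ι (Um g)) B (ap (kernel.lift _ ι h.comp_eq_zero) B x) = ap ι B x := fun B x => by
      rw [← ap_comp, kernel.lift_ι]
    have : Mono (kernel.lift _ ι h.comp_eq_zero) :=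
      mono_of_ap fun B x y e => h.inj B (by rw [← hθ, ← hθ, e])
    have : Epi (kernel.lift _ ι h.comp_eq_zero) := epi_of_ap fun B z => by
      obtain ⟨x, hx⟩ := (h.exact B (ap (kernel.ι (Um g)) B z)).mp (((isKer_kernel g).exact B).apply_apply_eq_zero z)
      exact ⟨x, injective_ap (kernel.ι (Um g)) B ((hθ B x).trans hx)⟩
    exact isIso_of_mono_of_epi _
  have hw : (kernel.ι (Um d.hom) ≫ Um gP) ≫ Um g = 0 := by
    show (kernel.ι (Um d.hom) ≫ (_root_.Adeq.underline A).map gP) ≫ (_root_.Adeq.underline A).map g = 0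
    rw [Category.assoc, ← Functor.map_comp, ← hc, Functor.map_comp, ← Category.assoc, kernel.condition, zero_comp]
  refine ⟨d, kernel.lift (Um g) _ hw ≫ inv e, k, h.inj B ?_⟩
  rw [← ap_comp, Category.assoc, ← he, IsIso.inv_hom_id_assoc, kernel.lift_ι, ap_comp, hk, he, ap_Um, hz]

theorem IsKer.covered {M N : ModuleCat.{u + 1} A} {ι : F ⟶ U M} {g : M ⟶ N} (h : IsKer ι g) : Covered F :=
  fun B S hS x => by
    obtain ⟨d, χ, k, rfl⟩ := h.exists_lift x
    exact hS d χ k

theorem covered_of_adequate (hF : _root_.Adeq.adequate A F) : Covered F :=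
  let ⟨_, _, _, _, h⟩ := exists_isKer hF
  h.covered

theorem Covered.of_epi (hF : Covered F) (π : F ⟶ G) [Epi π] : Covered G := by
  intro B S hS y
  obtain ⟨x, rfl⟩ := surjective_ap π B y
  refine hF B (S.comap (ap π B)) (fun d χ k => ?_) x
  exact hS d (χ ≫ π) k

section Pushout

variable {I : Type (u + 1)} [DecidableEq I] {Z : Type (u + 1)} [AddCommGroup Z] [Module A Z]
  {P P' : I → Type (u + 1)} [∀ i, AddCommGroup (P i)] [∀ i, Module A (P i)]
  [∀ i, AddCommGroup (P' i)] [∀ i, Module A (P' i)] (φ : ∀ i, P i →ₗ[A] P' i) (g : ∀ i, P i →ₗ[A] Z)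

/-- The relations of the pushout of a family. -/
noncomputable def rel : (⨁ i, P i) →ₗ[A] Z × (⨁ i, P' i) :=
  DirectSum.toModule A I _ fun i => (g i).prod ((DirectSum.lof A I P' i).comp (φ i))

lemma rel_lof (i : I) (p : P i) : rel φ g (DirectSum.lof A I P i p) = (g i p, DirectSum.lof A I P' i (φ i p)) := by
  simp [rel]

/-- The map into the pushout of a family. -/
noncomputable def push : Z →ₗ[A] (Z × (⨁ i, P' i)) ⧸ LinearMap.range (rel φ g) :=
  (LinearMap.range (rel φ g)).mkQ.comp (LinearMap.inl A Z _)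

lemma push_comp (i : I) : (push φ g).comp (g i) =
    -(((LinearMap.range (rel φ g)).mkQ.comp ((LinearMap.inr A Z _).comp (DirectSum.lof A I P' i))).comp (φ i)) := by
  refine LinearMap.ext fun p => ?_
  rw [LinearMap.neg_apply, eq_neg_iff_add_eq_zero]
  show (LinearMap.range (rel φ g)).mkQ (g i p, 0) + (LinearMap.range (rel φ g)).mkQ (0, DirectSum.lof A I P' i (φ i p)) = 0
  rw [← map_add, Submodule.mkQ_apply, Submodule.Quotient.mk_eq_zero]
  exact ⟨DirectSum.lof A I P i p, by rw [rel_lof]; simp⟩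

lemma component_rel (i : I) :
    (DirectSum.component A I P' i).comp ((LinearMap.snd A Z _).comp (rel φ g)) =
      (φ i).comp (DirectSum.component A I P i) := by
  refine DirectSum.linearMap_ext A fun j => LinearMap.ext fun p => ?_
  simp only [LinearMap.comp_apply, rel_lof, LinearMap.snd_apply]
  by_cases hji : j = i
  · subst hji
    rw [DirectSum.component.lof_self, DirectSum.component.lof_self]
  · simp [DirectSum.component.of, hji]

lemma exists_of_push_eq_zero (B : Type u) [CommRing B] [Algebra A B] (y : B ⊗[A] Z)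
    (hy : (push φ g).lTensor B y = 0) :
    ∃ (s : Finset I) (w : ∀ i, B ⊗[A] P i), (∀ i, (φ i).lTensor B (w i) = 0) ∧
      y = ∑ i ∈ s, (g i).lTensor B (w i) := by
  classical
  have hexT : Function.Exact ((rel φ g).lTensor B) ((LinearMap.range (rel φ g)).mkQ.lTensor B) :=
    lTensor_exact B (LinearMap.exact_map_mkQ_range (rel φ g)) (Submodule.mkQ_surjective _)
  obtain ⟨w, hw⟩ := (hexT ((LinearMap.inl A Z _).lTensor B y)).mp (by
    rw [← LinearMap.lTensor_comp_apply]
    exact hy)
  let e := TensorProduct.directSumRight A A B P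
  have hlof : ∀ (i : I) (v : B ⊗[A] P i),
      e.symm (DirectSum.of (fun i => B ⊗[A] P i) i v) = (DirectSum.lof A I P i).lTensor B v := by
    intro i v
    induction v using TensorProduct.induction_on with
    | zero => simp
    | tmul b p =>
      rw [LinearMap.lTensor_tmul, ← DirectSum.lof_eq_of A]
      exact TensorProduct.directSumRight_symm_lof_tmul (R := A) (S := A) b i p
    | add x y hx hy => simp only [map_add, hx, hy]
  have hwsum : w = ∑ i ∈ (e w).support, (DirectSum.lof A I P i).lTensor B (e w i) := by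
    conv_lhs => rw [← e.symm_apply_apply w, ← DirectSum.sum_support_of (e w), map_sum]
    exact Finset.sum_congr rfl fun i _ => hlof i _
  refine ⟨(e w).support, fun i => e w i, fun i => ?_, ?_⟩
  · have h4 : ∀ v : B ⊗[A] (⨁ i, P i), (φ i).lTensor B (e v i) =
        ((DirectSum.component A I P' i).comp ((LinearMap.snd A Z _).comp (rel φ g))).lTensor B v := by
      intro v
      rw [component_rel]
      induction v using TensorProduct.induction_on with
      | zero => simp
      | tmul b p => simp [e]; rfl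
      | add x y hx hy => simp only [map_add, DirectSum.add_apply, hx, hy]
    rw [h4, LinearMap.lTensor_comp_apply, LinearMap.lTensor_comp_apply, hw, ← LinearMap.lTensor_comp_apply B (LinearMap.snd A Z _),
      LinearMap.snd_comp_inl, LinearMap.lTensor_zero, LinearMap.zero_apply, map_zero]
  · have h1 : ((LinearMap.fst A Z _).comp (rel φ g)).lTensor B w = y := by
      rw [LinearMap.lTensor_comp_apply, hw, ← LinearMap.lTensor_comp_apply, LinearMap.fst_comp_inl,
        LinearMap.lTensor_id, LinearMap.id_apply]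
    rw [← h1]
    conv_lhs => rw [hwsum, map_sum]
    refine Finset.sum_congr rfl fun i _ => ?_
    rw [← LinearMap.lTensor_comp_apply]
    congr 2
    exact LinearMap.ext fun p => by simp [rel_lof]

end Pushout

/-- A module map whose scalar extensions have prescribed kernels. -/
theorem exists_pushout {I : Type (u + 1)} {Z : ModuleCat.{u + 1} A} (P P' : I → ModuleCat.{u + 1} A)
    (φ : ∀ i, P i ⟶ P' i) (g : ∀ i, P i ⟶ Z) :
    ∃ (Z' : ModuleCat.{u + 1} A) (h : Z ⟶ Z'),
      (∀ (B : _root_.Adeq.Alg A) (y : B ⊗[A] Z), h.hom.lTensor (B : Type u) y = 0 →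
        ∃ (s : Finset I) (w : ∀ i, B ⊗[A] P i), (∀ i, (φ i).hom.lTensor (B : Type u) (w i) = 0) ∧
          y = ∑ i ∈ s, (g i).hom.lTensor (B : Type u) (w i)) ∧
      ∀ (B : _root_.Adeq.Alg A) (i : I) (z : B ⊗[A] P i), (φ i).hom.lTensor (B : Type u) z = 0 →
        h.hom.lTensor (B : Type u) ((g i).hom.lTensor (B : Type u) z) = 0 := by
  classical
  let φ' : ∀ i, (P i : Type (u + 1)) →ₗ[A] (P' i : Type (u + 1)) := fun i => (φ i).hom
  let g' : ∀ i, (P i : Type (u + 1)) →ₗ[A] (Z : Type (u + 1)) := fun i => (g i).hom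
  refine ⟨ModuleCat.of A ((↑Z × (⨁ i : I, (P' i : Type (u + 1)))) ⧸ LinearMap.range (rel φ' g')),
    ModuleCat.ofHom (push φ' g'), fun B y hy => exists_of_push_eq_zero φ' g' (B : Type u) y hy, fun B i z hz => ?_⟩
  show (push φ' g').lTensor (B : Type u) ((g' i).lTensor (B : Type u) z) = 0
  rw [← LinearMap.lTensor_comp_apply, push_comp, LinearMap.lTensor_neg, LinearMap.neg_apply,
    LinearMap.lTensor_comp_apply, show (φ' i).lTensor (B : Type u) z = 0 from hz, map_zero, neg_zero]

/-- The image of a covered functor in the functor of a module is a kernel. -/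
theorem exists_kernel_eq_image (hF : Covered F) {Z : ModuleCat.{u + 1} A} (θ : F ⟶ U Z) :
    ∃ (Z' : ModuleCat.{u + 1} A) (h : Z ⟶ Z'), ∀ B, Function.Exact (ap θ B) (ap (Um h) B) := by
  classical
  have hex : ∀ i : (Σ d : Datum A, (d.L ⟶ F)), ∃ g : i.1.P ⟶ Z, kernel.ι (Um i.1.hom) ≫ Um g = i.2 ≫ θ :=
    fun i => i.1.exists_extension _
  choose g hg using hex
  obtain ⟨Z', h, h1, h2⟩ := exists_pushout (fun i : (Σ d : Datum A, (d.L ⟶ F)) => i.1.P) (fun i => i.1.P')
    (fun i => i.1.hom) g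
  refine ⟨Z', h, fun B y => ⟨fun hy => ?_, ?_⟩⟩
  · obtain ⟨s, w, hw, hsum⟩ := h1 B y hy
    rw [hsum]
    refine Submodule.sum_mem (LinearMap.range (ap θ B)) fun i _ => ?_
    obtain ⟨k, hk⟩ := ((isKer_kernel i.1.hom).exact B (w i)).mp (hw i)
    refine ⟨ap i.2 B k, ?_⟩
    rw [← ap_comp, ← hg, ap_comp, hk]
    exact ap_Um (g i) (w i)
  · rintro ⟨x, rfl⟩
    refine hF B (LinearMap.ker ((ap (Um h) B).comp (ap θ B))) (fun d χ k => ?_) x
    rw [LinearMap.mem_ker, LinearMap.comp_apply, ← ap_comp χ θ, ← hg ⟨d, χ⟩, ap_comp]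
    exact h2 B ⟨d, χ⟩ (ap (kernel.ι (Um d.hom)) B k) (((isKer_kernel d.hom).exact B).apply_apply_eq_zero k)

/-- A covered subfunctor of the functor of a module is adequate. -/
theorem Covered.adequate (hF : Covered F) {Z : ModuleCat.{u + 1} A} (θ : F ⟶ U Z) [Mono θ] :
    _root_.Adeq.adequate A F := by
  obtain ⟨Z', h, hh⟩ := exists_kernel_eq_image hF θ
  exact IsKer.adequate ⟨injective_ap θ, hh⟩

/-- Kernels of morphisms of adequate functors are adequate. -/
theorem adequate_kernel (φ : F ⟶ G) (hF : _root_.Adeq.adequate A F) (hG : _root_.Adeq.adequate A G) :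
    _root_.Adeq.adequate A (kernel φ) := by
  obtain ⟨M, N, g, ι, hι⟩ := exists_isKer hF
  obtain ⟨M', N', g', ι', hι'⟩ := exists_isKer hG
  have : Mono ι := mono_of_ap hι.inj
  refine Covered.adequate (fun B S hS x => ?_) (kernel.ι φ ≫ ι)
  obtain ⟨d, χ, k, hk⟩ := hι.exists_lift (ap (kernel.ι φ) B x)
  obtain ⟨γ, hγ⟩ := d.exists_extension (χ ≫ φ ≫ ι')
  let g₂ : d.P ⟶ ModuleCat.of A (d.P' × M') := ModuleCat.ofHom (d.hom.hom.prod γ.hom)
  let z : (B : Type u) ⊗[A] d.P := ap (kernel.ι (Um d.hom)) B k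
  have hz1 : d.hom.hom.lTensor (B : Type u) z = 0 := ((isKer_kernel d.hom).exact B).apply_apply_eq_zero k
  have hz2 : γ.hom.lTensor (B : Type u) z = 0 := by
    show ap (Um γ) B (ap (kernel.ι (Um d.hom)) B k) = 0
    rw [← ap_comp, hγ, ap_comp, ap_comp, hk]
    simp [← ap_comp, ap_zero]
  have hz : g₂.hom.lTensor (B : Type u) z = 0 := by
    have : g₂.hom = (LinearMap.inl A d.P' M').comp d.hom.hom + (LinearMap.inr A d.P' M').comp γ.hom :=
      LinearMap.ext fun p => by simp [g₂]
    rw [this, LinearMap.lTensor_add, LinearMap.add_apply, LinearMap.lTensor_comp_apply, LinearMap.lTensor_comp_apply,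
      hz1, hz2, map_zero, map_zero, add_zero]
  obtain ⟨k₂, hk₂⟩ := ((isKer_kernel g₂).exact B z).mp hz
  have hA : _root_.Adeq.adequate A (kernel (Um g₂)) := ⟨_, _, g₂, ⟨Iso.refl _⟩⟩
  have hd : kernel.ι (Um g₂) ≫ Um d.hom = 0 := hom_ext fun B' y => by
    rw [ap_comp, ap_zero]
    have h0 : g₂.hom.lTensor (B' : Type u) (ap (kernel.ι (Um g₂)) B' y) = 0 :=
      ((isKer_kernel g₂).exact B').apply_apply_eq_zero y
    have h1 := congrArg ((LinearMap.fst A d.P' M').lTensor (B' : Type u)) h0
    rw [map_zero, ← LinearMap.lTensor_comp_apply] at h1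
    exact h1
  have hg : kernel.ι (Um g₂) ≫ Um γ = 0 := hom_ext fun B' y => by
    rw [ap_comp, ap_zero]
    have h0 : g₂.hom.lTensor (B' : Type u) (ap (kernel.ι (Um g₂)) B' y) = 0 :=
      ((isKer_kernel g₂).exact B').apply_apply_eq_zero y
    have h1 := congrArg ((LinearMap.snd A d.P' M').lTensor (B' : Type u)) h0
    rw [map_zero, ← LinearMap.lTensor_comp_apply] at h1
    exact h1
  let τ : kernel (Um g₂) ⟶ d.L := kernel.lift _ _ hd
  have : Mono ι' := mono_of_ap hι'.inj
  have hτ : (τ ≫ χ) ≫ φ = 0 := by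
    rw [← cancel_mono ι', zero_comp, Category.assoc, Category.assoc, ← hγ, ← Category.assoc, kernel.lift_ι, hg]
  let σ : kernel (Um g₂) ⟶ kernel φ := kernel.lift φ (τ ≫ χ) hτ
  have hσ : ap σ B k₂ = x := by
    apply injective_ap (kernel.ι φ) B
    rw [← ap_comp, kernel.lift_ι, ap_comp, ← hk]
    congr 1
    apply injective_ap (kernel.ι (Um d.hom)) B
    rw [← ap_comp, kernel.lift_ι]
    exact hk₂
  rw [← hσ]
  exact covered_of_adequate hA B (S.comap (ap σ B)) (fun d' χ' k' => hS d' (χ' ≫ σ) k') k₂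

/-- Cokernels of morphisms of adequate functors are adequate. -/
theorem adequate_cokernel (φ : F ⟶ G) (hF : Covered F) (hG : _root_.Adeq.adequate A G) :
    _root_.Adeq.adequate A (cokernel φ) := by
  obtain ⟨M, N, g, ι, hι⟩ := exists_isKer hG
  obtain ⟨Z', h, hh⟩ := exists_kernel_eq_image hF (φ ≫ ι)
  have hw : φ ≫ ι ≫ Um h = 0 := hom_ext fun B x => (hh B).apply_apply_eq_zero x
  let θ : cokernel φ ⟶ U Z' := cokernel.desc φ (ι ≫ Um h) hw
  have : Mono θ := mono_of_ap fun B => by
    refine (injective_iff_map_eq_zero _).2 fun y hy => ?_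
    obtain ⟨x, rfl⟩ := surjective_ap (cokernel.π φ) B y
    rw [← ap_comp, cokernel.π_desc, ap_comp] at hy
    obtain ⟨z, hz⟩ := (hh B _).mp hy
    have hz' : ap φ B z = x := hι.inj B hz
    rw [← hz', ← ap_comp, cokernel.condition, ap_zero]
  exact ((covered_of_adequate hG).of_epi (cokernel.π φ)).adequate θ

/-- Adequate functors are quotients of sums of linearly adequate ones. -/
theorem exists_epi_cofan (hF : _root_.Adeq.adequate A F) :
    ∃ (ι : Type (u + 1)) (L : ι → _root_.Adeq.MVF A), (∀ i, _root_.Adeq.linAdequate A (L i)) ∧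
      ∃ (c : Cofan L) (_ : IsColimit c) (π : c.pt ⟶ F), Epi π := by
  let I := Σ d : Datum A, (d.L ⟶ F)
  let L : I → _root_.Adeq.MVF A := fun i => i.1.L
  refine ⟨I, L, fun i => i.1.linAdequate, Cofan.mk (∐ L) (Sigma.ι L), coproductIsCoproduct L,
    Sigma.desc fun i => i.2, epi_of_ap fun B => ?_⟩
  intro x
  obtain ⟨M, N, g, ι, hι⟩ := exists_isKer hF
  obtain ⟨d, χ, k, rfl⟩ := hι.exists_lift x
  refine ⟨ap (Sigma.ι L ⟨d, χ⟩) B k, ?_⟩
  show ap (Sigma.desc fun i : I => i.2) B (ap (Sigma.ι L ⟨d, χ⟩) B k) = _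
  rw [← ap_comp]
  exact congrArg (fun m => ap m B k) (Sigma.ι_desc _ _)

end Groth.Agent.H54.Adeq
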