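import Groth.Agent.H54.Adeq.Ring
import Groth.Agent.H54.Adeq.Cover

/-!
# Descent of adequacy
-/

universe u

open CategoryTheory Limits TensorProduct

namespace Groth.Agent.H54.Adeq

variable {A : Type u} [CommRing A] (A' : Type u) [CommRing A'] [Algebra A A']

/-- Restriction followed by pushing forward. -/
noncomputable abbrev PR (F : _root_.Adeq.MVF A) : _root_.Adeq.MVF A :=
  (_root_.Adeq.push A A').obj ((_root_.Adeq.restr A A').obj F)

lemma unit_aux {B B' : Type u} [CommRing B] [CommRing B'] [Algebra A B] [Algebra A B'] (h : B →ₐ[A] B') (b : B) :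
    Algebra.TensorProduct.map (AlgHom.id A' A') h ((1 : A') ⊗ₜ[A] b) = (1 : A') ⊗ₜ[A] h b := by
  rw [Algebra.TensorProduct.map_tmul, map_one]

lemma unit_naturality {B B' : _root_.Adeq.Alg A} (h : B ⟶ B') :
    h ≫ _root_.Adeq.Alg.unit A A' B' =
      _root_.Adeq.Alg.unit A A' B ≫ (_root_.Adeq.Alg.restr A A').map ((_root_.Adeq.Alg.baseChange A A').map h) := by
  apply CommAlgCat.hom_ext
  refine DFunLike.ext _ _ fun b => ?_
  exact (unit_aux A' h.hom b).symm

/-- The unit of restriction and pushforward. -/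
noncomputable def eta (F : _root_.Adeq.MVF A) : F ⟶ PR A' F :=
  mkHom (fun B =>
    { toFun := fun x => mp F (_root_.Adeq.Alg.unit A A' B) x
      map_add' := fun x y => map_add _ x y
      map_smul' := fun c x => mp_smul (_root_.Adeq.Alg.unit A A' B) c x })
    fun B B' h x => by
      show mp F (_root_.Adeq.Alg.unit A A' B') (mp F h x) =
        mp F ((_root_.Adeq.Alg.restr A A').map ((_root_.Adeq.Alg.baseChange A A').map h))
          (mp F (_root_.Adeq.Alg.unit A A' B) x)
      rw [← mp_comp, ← mp_comp, unit_naturality]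

lemma eta_naturality {F G : _root_.Adeq.MVF A} (φ : F ⟶ G) :
    φ ≫ eta A' G = eta A' F ≫ (_root_.Adeq.push A A').map ((_root_.Adeq.restr A A').map φ) :=
  hom_ext fun _ x => (ap_mp φ (_root_.Adeq.Alg.unit A A' _) x).symm

theorem adequate_of_descent (F : _root_.Adeq.MVF A) (h₁ : _root_.Adeq.adequate A' ((_root_.Adeq.restr A A').obj F))
    (h₂ : ∀ B : _root_.Adeq.Alg A, Function.Injective (mp F (_root_.Adeq.Alg.unit A A' B)) ∧
      ∀ y : Val F ((_root_.Adeq.Alg.restr A A').obj ((_root_.Adeq.Alg.baseChange A A').obj B)),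
        mp F (_root_.Adeq.Alg.unit A A' ((_root_.Adeq.Alg.restr A A').obj ((_root_.Adeq.Alg.baseChange A A').obj B))) y =
          mp F ((_root_.Adeq.Alg.restr A A').map ((_root_.Adeq.Alg.baseChange A A').map (_root_.Adeq.Alg.unit A A' B))) y →
        y ∈ Set.range (mp F (_root_.Adeq.Alg.unit A A' B))) :
    _root_.Adeq.adequate A F := by
  have hP : _root_.Adeq.adequate A (PR A' F) := adequate_push h₁
  have hPP : _root_.Adeq.adequate A (PR A' (PR A' F)) := adequate_push (adequate_restr hP)
  let b : PR A' F ⟶ PR A' (PR A' F) := (_root_.Adeq.push A A').map ((_root_.Adeq.restr A A').map (eta A' F))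
  let d : PR A' F ⟶ PR A' (PR A' F) := eta A' (PR A' F) - b
  have hd : eta A' F ≫ d = 0 := by rw [Preadditive.comp_sub, eta_naturality, sub_self]
  let θ : F ⟶ kernel d := kernel.lift d (eta A' F) hd
  have hθ : ∀ B x, ap (kernel.ι d) B (ap θ B x) = ap (eta A' F) B x := fun B x => by
    rw [← ap_comp, kernel.lift_ι]
  have : Mono θ := mono_of_ap fun B x y e => (h₂ B).1 ((hθ B x).symm.trans ((congrArg _ e).trans (hθ B y)))
  have : Epi θ := epi_of_ap fun B z => by
    have h0 : ap d B (ap (kernel.ι d) B z) = 0 := by rw [← ap_comp, kernel.condition, ap_zero]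
    rw [ap_sub, sub_eq_zero] at h0
    obtain ⟨x, hx⟩ := (h₂ B).2 (ap (kernel.ι d) B z) h0.symm
    exact ⟨x, injective_ap (kernel.ι d) B ((hθ B x).trans hx)⟩
  have : IsIso θ := isIso_of_mono_of_epi θ
  exact (_root_.Adeq.adequate A).prop_of_iso (asIso θ).symm (adequate_kernel d hP hPP)

end Groth.Agent.H54.Adeq
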