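import Groth.Agent.H54.Adeq.Cover

/-!
# Square-zero thickenings in module-valued functors
-/

universe u

open CategoryTheory Limits TensorProduct TrivSqZeroExt

namespace Groth.Agent.H54.Adeq

variable {A : Type u} [CommRing A]

/-- The dual numbers over an algebra. -/
noncomputable abbrev dual (B : _root_.Adeq.Alg A) : _root_.Adeq.Alg A := _root_.Adeq.algOf A (DualNumber B)

/-- The square-zero extension by two copies. -/
noncomputable abbrev dual2 (B : _root_.Adeq.Alg A) : _root_.Adeq.Alg A :=
  _root_.Adeq.algOf A (TrivSqZeroExt B (Prod (B : Type u) (B : Type u)))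

/-- The infinitesimal. -/
noncomputable def ε' (B : _root_.Adeq.Alg A) : dual B := (DualNumber.eps : DualNumber B)

/-- The constants of the dual numbers. -/
noncomputable def dinl (B : _root_.Adeq.Alg A) : B ⟶ dual B :=
  CommAlgCat.ofHom (inlAlgHom A B B)

/-- Maps out of the dual numbers. -/
noncomputable def dlift {B C : _root_.Adeq.Alg A} (f : B ⟶ C) (e : C) (he : e * e = 0) : dual B ⟶ C :=
  CommAlgCat.ofHom (DualNumber.lift ⟨(f.hom, e), he, fun _ => Commute.all _ _⟩)

lemma dlift_apply {B C : _root_.Adeq.Alg A} (f : B ⟶ C) (e : C) (he : e * e = 0) (a : DualNumber B) :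
    (dlift f e he).hom a = f.hom a.fst + f.hom a.snd * e := by
  exact DualNumber.lift_apply_apply _ a

lemma dinl_dlift {B C : _root_.Adeq.Alg A} (f : B ⟶ C) (e : C) (he : e * e = 0) : dinl B ≫ dlift f e he = f := by
  refine CommAlgCat.hom_ext (AlgHom.ext fun b => ?_)
  show (dlift f e he).hom (inl b : DualNumber B) = _
  rw [dlift_apply, fst_inl, snd_inl, map_zero, zero_mul, add_zero]

lemma dlift_eps {B C : _root_.Adeq.Alg A} (f : B ⟶ C) (e : C) (he : e * e = 0) :
    (dlift f e he).hom (ε' B) = e := by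
  rw [ε', dlift_apply]
  simp

variable {F G : _root_.Adeq.MVF A}

lemma val_zero_smul {B : _root_.Adeq.Alg A} (x : Val F B) : (0 : B) • x = 0 :=
  Module.zero_smul (R := ((_root_.Adeq.pt B).unop.unop : Type u)) x

/-- Multiplication by the infinitesimal after extending to the dual numbers. -/
noncomputable def emul (F : _root_.Adeq.MVF A) (B : _root_.Adeq.Alg A) : Val F B →+ Val F (dual B) where
  toFun x := ε' B • mp F (dinl B) x
  map_zero' := by rw [map_zero, smul_zero]
  map_add' x y := by rw [map_add, smul_add]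

lemma emul_apply (B : _root_.Adeq.Alg A) (x : Val F B) : emul F B x = ε' B • mp F (dinl B) x := rfl

lemma ap_emul (φ : F ⟶ G) {B : _root_.Adeq.Alg A} (x : Val F B) :
    ap φ (dual B) (emul F B x) = emul G B (ap φ B x) := by
  rw [emul_apply, emul_apply, map_smul, ap_mp]

lemma mp_dlift_emul {B C : _root_.Adeq.Alg A} (f : B ⟶ C) (e : C) (he : e * e = 0) (x : Val F B) :
    mp F (dlift f e he) (emul F B x) = e • mp F f x := by
  rw [emul_apply, mp_smul, dlift_eps, ← mp_comp, dinl_dlift]

section U

variable (M : ModuleCat.{u + 1} A) (B : _root_.Adeq.Alg A)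

/-- The infinitesimal coefficient. -/
noncomputable def sndL : DualNumber B →ₗ[A] B := (sndHom B B).restrictScalars A

/-- The constant coefficient. -/
noncomputable def fstL : DualNumber B →ₗ[A] B := (fstHom A B B).toLinearMap

lemma snd_emul (x : (B : Type u) ⊗[A] M) :
    (sndL B).rTensor M (emul (U M) B (x : Val (U M) B) : (dual B : Type u) ⊗[A] M) = x := by
  show (sndL B).rTensor M ((ε' B : dual B) • ((dinl B).hom.toLinearMap.rTensor M x : (dual B : Type u) ⊗[A] M)) = x
  induction x using TensorProduct.induction_on with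
  | zero => simp
  | tmul b m =>
    rw [LinearMap.rTensor_tmul, TensorProduct.smul_tmul', LinearMap.rTensor_tmul]
    congr 1
    show snd ((DualNumber.eps : DualNumber B) * inl b) = b
    simp
  | add x y hx hy => rw [map_add, smul_add, map_add, hx, hy]

lemma eq_emul_add (w : (dual B : Type u) ⊗[A] M) :
    w = (dinl B).hom.toLinearMap.rTensor M ((fstL B).rTensor M w) +
      (ε' B : dual B) • ((dinl B).hom.toLinearMap.rTensor M ((sndL B).rTensor M w) : (dual B : Type u) ⊗[A] M) := by
  induction w using TensorProduct.induction_on with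
  | zero => simp
  | tmul b m =>
    rw [LinearMap.rTensor_tmul, LinearMap.rTensor_tmul, LinearMap.rTensor_tmul, LinearMap.rTensor_tmul,
      TensorProduct.smul_tmul', ← TensorProduct.add_tmul]
    congr 1
    show b = (inl (fst b) : DualNumber B) + (DualNumber.eps : DualNumber B) * inl (snd b)
    ext <;> simp
  | add x y hx hy =>
    conv_lhs => rw [hx, hy]
    simp only [map_add, smul_add]
    abel

end U

variable {M N : ModuleCat.{u + 1} A} {ι : F ⟶ U M} {g : M ⟶ N} (hF : IsKer ι g)

include hF

lemma IsKer.emul_injective (B : _root_.Adeq.Alg A) : Function.Injective (emul F B) := by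
  refine (injective_iff_map_eq_zero _).2 fun x hx => hF.inj B ?_
  rw [map_zero, ← snd_emul M B (ap ι B x), ← ap_emul, hx, map_zero]
  exact map_zero _

lemma IsKer.exists_emul {B : _root_.Adeq.Alg A} (x : Val F (dual B))
    (hx : mp F (dlift (𝟙 B) 0 (mul_zero 0)) x = 0) : ∃ y, emul F B y = x := by
  let w : (dual B : Type u) ⊗[A] M := ap ι (dual B) x
  have hfst : (fstL B).rTensor M w = 0 := by
    have h : (dlift (𝟙 B) 0 (mul_zero 0)).hom.toLinearMap = fstL B := LinearMap.ext fun a => by
      show (dlift (𝟙 B) 0 (mul_zero 0)).hom a = fst a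
      rw [dlift_apply, mul_zero, add_zero]
      rfl
    rw [← h]
    show mp (U M) (dlift (𝟙 B) 0 (mul_zero 0)) (ap ι (dual B) x) = 0
    rw [← ap_mp, hx, map_zero]
  have hg : g.hom.lTensor (B : Type u) ((sndL B).rTensor M w) = 0 := by
    rw [← LinearMap.comp_apply, LinearMap.lTensor_comp_rTensor, ← LinearMap.rTensor_comp_lTensor, LinearMap.comp_apply]
    rw [show g.hom.lTensor (dual B : Type u) w = 0 from (hF.exact (dual B)).apply_apply_eq_zero x, map_zero]
  obtain ⟨y, hy⟩ := (hF.exact B _).mp hg
  refine ⟨y, hF.inj (dual B) ?_⟩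
  rw [ap_emul, hy]
  show _ = w
  conv_rhs => rw [eq_emul_add M B w, hfst, map_zero, zero_add]
  rfl

omit hF

/-- The first projection from the extension by two copies. -/
noncomputable def pr (B : _root_.Adeq.Alg A) (l : (Prod (B : Type u) (B : Type u)) →ₗ[B] B) : dual2 B ⟶ dual B :=
  CommAlgCat.ofHom ((TrivSqZeroExt.map l).restrictScalars A)

/-- The constants of the extension by two copies. -/
noncomputable def dinl2 (B : _root_.Adeq.Alg A) : B ⟶ dual2 B :=
  CommAlgCat.ofHom (inlAlgHom A B (Prod (B : Type u) (B : Type u)))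

lemma dinl2_pr (B : _root_.Adeq.Alg A) (l : (Prod (B : Type u) (B : Type u)) →ₗ[B] B) : dinl2 B ≫ pr B l = dinl B :=
  CommAlgCat.hom_ext (AlgHom.ext fun b => TrivSqZeroExt.map_inl l b)

include hF

lemma IsKer.eq_zero_of_pr {B : _root_.Adeq.Alg A} (x : Val F (dual2 B))
    (h1 : mp F (pr B (LinearMap.fst B B B)) x = 0) (h2 : mp F (pr B (LinearMap.snd B B B)) x = 0) : x = 0 := by
  let w : (dual2 B : Type u) ⊗[A] M := ap ι (dual2 B) x
  let p1 := (pr B (LinearMap.fst B B B)).hom.toLinearMap
  let p2 := (pr B (LinearMap.snd B B B)).hom.toLinearMap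
  let j1 : (dual B : Type u) →ₗ[A] (dual2 B : Type u) :=
    (inlAlgHom A B (Prod (B : Type u) (B : Type u))).toLinearMap ∘ₗ fstL B +
      ((inrHom B (Prod (B : Type u) (B : Type u))).restrictScalars A) ∘ₗ
        ((LinearMap.inl B B B).restrictScalars A) ∘ₗ sndL B
  let j2 : (dual B : Type u) →ₗ[A] (dual2 B : Type u) :=
    ((inrHom B (Prod (B : Type u) (B : Type u))).restrictScalars A) ∘ₗ ((LinearMap.inr B B B).restrictScalars A) ∘ₗ sndL B
  have hid : j1 ∘ₗ p1 + j2 ∘ₗ p2 = LinearMap.id := by
    refine LinearMap.ext fun (a : TrivSqZeroExt B (Prod (B : Type u) (B : Type u))) => ?_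
    show inl (fst (TrivSqZeroExt.map (LinearMap.fst B B B) a)) + inr ((snd (TrivSqZeroExt.map (LinearMap.fst B B B) a), 0)) +
      inr ((0, snd (TrivSqZeroExt.map (LinearMap.snd B B B) a))) = a
    ext <;> simp
  have hw1 : p1.rTensor M w = 0 := by
    show mp (U M) (pr B (LinearMap.fst B B B)) (ap ι (dual2 B) x) = 0
    rw [← ap_mp, h1, map_zero]
  have hw2 : p2.rTensor M w = 0 := by
    show mp (U M) (pr B (LinearMap.snd B B B)) (ap ι (dual2 B) x) = 0
    rw [← ap_mp, h2, map_zero]
  have hw : w = 0 := by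
    rw [← LinearMap.id_apply (R := A) w, ← LinearMap.rTensor_id, ← hid, LinearMap.rTensor_add, LinearMap.add_apply,
      LinearMap.rTensor_comp_apply, LinearMap.rTensor_comp_apply, hw1, hw2, map_zero, map_zero, add_zero]
  apply hF.inj
  rw [map_zero]
  exact hw

end Groth.Agent.H54.Adeq
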