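import Groth.Agent.H54.Adeq.Split
import Groth.Agent.H54.AdeqInj
import Mathlib.CategoryTheory.Adjunction.AdjointFunctorTheorems
import Mathlib.CategoryTheory.Comma.StructuredArrow.Basic

/-!
# Extensions, the coreflector and injectives
-/

universe u

open CategoryTheory Limits TensorProduct

namespace Groth.Agent.H54.Adeq

variable {A : Type u} [CommRing A]

/-- The index of all maps from linearly adequate functors. -/
abbrev Idx (F : _root_.Adeq.MVF A) : Type (u + 1) := Σ d : Datum A, (d.L ⟶ F)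

/-- The sum of all linearly adequate functors over a given one. -/
noncomputable abbrev cov (F : _root_.Adeq.MVF A) : _root_.Adeq.MVF A := ∐ fun i : Idx F => i.1.L

/-- The tautological map from that sum. -/
noncomputable abbrev covπ (F : _root_.Adeq.MVF A) : cov F ⟶ F := Sigma.desc fun i : Idx F => i.2

lemma ι_covπ (F : _root_.Adeq.MVF A) (i : Idx F) : Sigma.ι (fun i : Idx F => i.1.L) i ≫ covπ F = i.2 :=
  Sigma.ι_desc _ _

lemma adequate_cov (F : _root_.Adeq.MVF A) : _root_.Adeq.adequate A (cov F) :=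
  adequate_sigma _ fun i => i.1.adequate

lemma epi_covπ {F : _root_.Adeq.MVF A} (hF : _root_.Adeq.adequate A F) : Epi (covπ F) := by
  refine epi_of_ap fun B x => ?_
  obtain ⟨M, N, g, ι, hι⟩ := exists_isKer hF
  obtain ⟨d, χ, k, rfl⟩ := hι.exists_lift x
  exact ⟨ap (Sigma.ι (fun i : Idx F => i.1.L) ⟨d, χ⟩) B k, by rw [← ap_comp, ι_covπ]⟩

/-- An extension of adequate functors is adequate. -/
theorem adequate_extension (S : ShortComplex (_root_.Adeq.MVF A)) (hS : S.ShortExact)
    (h₁ : _root_.Adeq.adequate A S.X₁) (h₃ : _root_.Adeq.adequate A S.X₃) : _root_.Adeq.adequate A S.X₂ := by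
  haveI := hS.mono_f
  haveI := hS.epi_g
  haveI := epi_covπ h₃
  have hK : _root_.Adeq.adequate A (kernel S.g) :=
    (_root_.Adeq.adequate A).prop_of_iso
      (IsLimit.conePointUniqueUpToIso hS.fIsKernel (limit.isLimit _)) h₁
  choose γ hγ using fun i : Idx S.X₃ => exists_lift_of_epi i.1 S.g hK i.2
  let q : cov S.X₃ ⟶ S.X₂ := Sigma.desc γ
  have hq : q ≫ S.g = covπ S.X₃ := Sigma.hom_ext _ _ fun i => by
    rw [ι_covπ, ← Category.assoc, show Sigma.ι (fun i : Idx S.X₃ => i.1.L) i ≫ q = γ i from Sigma.ι_desc _ _, hγ]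
  have hψ0 : (kernel.ι (covπ S.X₃) ≫ q) ≫ S.g = 0 := by rw [Category.assoc, hq, kernel.condition]
  obtain ⟨ψ, hψ⟩ := KernelFork.IsLimit.lift' hS.fIsKernel _ hψ0
  replace hψ : ψ ≫ S.f = kernel.ι (covπ S.X₃) ≫ q := hψ
  let T : ULift.{u + 1} Bool → _root_.Adeq.MVF A := fun b => Bool.rec (cov S.X₃) S.X₁ b.down
  let π : (∐ T) ⟶ S.X₂ := Sigma.desc fun b => match b with
    | ⟨false⟩ => q
    | ⟨true⟩ => S.f
  let inL : cov S.X₃ ⟶ ∐ T := Sigma.ι T ⟨false⟩
  let inF : S.X₁ ⟶ ∐ T := Sigma.ι T ⟨true⟩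
  have hL : inL ≫ π = q := Sigma.ι_desc _ (⟨false⟩ : ULift.{u + 1} Bool)
  have hF : inF ≫ π = S.f := Sigma.ι_desc _ (⟨true⟩ : ULift.{u + 1} Bool)
  let κ : kernel (covπ S.X₃) ⟶ ∐ T := kernel.ι (covπ S.X₃) ≫ inL - ψ ≫ inF
  have hκ : κ ≫ π = 0 := by
    rw [Preadditive.sub_comp, Category.assoc, Category.assoc, hL, hF, hψ, sub_self]
  have hT : _root_.Adeq.adequate A (∐ T) := adequate_sigma T fun b => match b with
    | ⟨false⟩ => adequate_cov _
    | ⟨true⟩ => h₁
  have hC := adequate_cokernel κ (covered_of_adequate (adequate_kernel (covπ S.X₃) (adequate_cov _) h₃)) hT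
  let δ : cokernel κ ⟶ S.X₂ := cokernel.desc κ π hκ
  have hsum : ∀ (B : _root_.Adeq.Alg A) (z : Val (∐ T) B), ∃ a l, z = ap inF B a + ap inL B l := by
    intro B z
    have hle : (⊤ : Submodule B (Val (∐ T) B)) ≤ LinearMap.range (ap inF B) ⊔ LinearMap.range (ap inL B) := by
      rw [← iSup_range_eq_top T B]
      refine iSup_le ?_
      rintro ⟨_ | _⟩
      exacts [le_sup_right, le_sup_left]
    obtain ⟨_, ⟨a, rfl⟩, _, ⟨l, rfl⟩, h⟩ := Submodule.mem_sup.1 (hle (Submodule.mem_top (x := z)))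
    exact ⟨a, l, h.symm⟩
  have : Mono δ := mono_of_ap fun B => (injective_iff_map_eq_zero _).2 fun c hc => by
    obtain ⟨z, rfl⟩ := surjective_ap (cokernel.π κ) B c
    rw [← ap_comp, cokernel.π_desc] at hc
    obtain ⟨a, l, rfl⟩ := hsum B z
    rw [map_add, ← ap_comp, ← ap_comp, hF, hL] at hc
    have h0 : ap (covπ S.X₃) B l = 0 := by
      have h := congrArg (ap S.g B) hc
      rwa [map_add, ← ap_comp, ← ap_comp, S.zero, ap_zero, zero_add, hq, map_zero] at h
    obtain ⟨k, rfl⟩ := exists_kernel_preimage _ l h0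
    have ha : a = - ap ψ B k := by
      apply injective_ap S.f B
      rw [map_neg, ← ap_comp, hψ, ap_comp]
      exact eq_neg_of_add_eq_zero_left hc
    have h2 : ap κ B k = ap inF B a + ap inL B (ap (kernel.ι (covπ S.X₃)) B k) := by
      rw [ap_sub, ap_comp, ap_comp, ha, map_neg]
      abel
    rw [← h2, ← ap_comp, cokernel.condition, ap_zero]
  have : Epi δ := epi_of_ap fun B y => by
    obtain ⟨l, hl⟩ := surjective_ap (covπ S.X₃) B (ap S.g B y)
    have h0 : ap S.g B (y - ap q B l) = 0 := by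
      rw [map_sub, ← ap_comp, hq, hl, sub_self]
    obtain ⟨a, ha⟩ := (exact_ap S hS.exact B _).mp h0
    refine ⟨ap (cokernel.π κ) B (ap inF B a + ap inL B l), ?_⟩
    rw [← ap_comp, cokernel.π_desc, map_add, ← ap_comp, ← ap_comp, hF, hL, ha, sub_add_cancel]
  have : IsIso δ := isIso_of_mono_of_epi δ
  exact (_root_.Adeq.adequate A).prop_of_iso (asIso δ) hC

/-- Extensions of linearly adequate functors by functors of modules split. -/
theorem nonempty_splitting (S : ShortComplex (_root_.Adeq.MVF A)) (hS : S.ShortExact)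
    (h₁ : _root_.Adeq.adequate A S.X₁) (hL : _root_.Adeq.linAdequate A S.X₃) : Nonempty S.Splitting := by
  obtain ⟨P, P', φ, _, _, _, _, ⟨i⟩⟩ := hL
  obtain ⟨M', N', g, ιF, hF⟩ := exists_isKer h₁
  haveI := hS.mono_f
  haveI := hS.epi_g
  have hι : IsKer (i.hom ≫ kernel.ι (Um φ)) φ :=
    ⟨fun B => (injective_ap (kernel.ι (Um φ)) B).comp (injective_ap i.hom B), fun B y => by
      constructor
      · intro hy
        obtain ⟨x, hx⟩ := ((isKer_kernel φ).exact B y).mp hy
        obtain ⟨x', rfl⟩ := surjective_ap i.hom B x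
        exact ⟨x', hx⟩
      · rintro ⟨x, rfl⟩
        exact ((isKer_kernel φ).exact B).apply_apply_eq_zero _⟩
  obtain ⟨s, hs⟩ := exists_section (e := (Module.Free.chooseBasis A P).reindex (Fintype.equivFin _))
    (e' := (Module.Free.chooseBasis A P').reindex (Fintype.equivFin _)) hι hF S.f S.g (fun B => injective_ap _ B)
    (fun B => exact_ap S hS.exact B) (fun B => surjective_ap _ B)
  exact ⟨ShortComplex.Splitting.ofExactOfSection S hS.exact s hs hS.mono_f⟩

lemma adequate_U (M : ModuleCat.{u + 1} A) : _root_.Adeq.adequate A (U M) :=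
  IsKer.adequate (ι := 𝟙 (U M)) (g := (0 : M ⟶ M)) ⟨fun B => fun _ _ h => h, fun B y => ⟨fun _ => ⟨y, rfl⟩, fun _ => by
    rw [show Um (0 : M ⟶ M) = 0 from (_root_.Adeq.underline A).map_zero M M, ap_zero]⟩⟩

section Coreflect

variable (F : _root_.Adeq.MVF A)

/-- The relations of the coreflection. -/
noncomputable abbrev coRel : cov (kernel (covπ F)) ⟶ cov F := covπ (kernel (covπ F)) ≫ kernel.ι (covπ F)

/-- The coreflection. -/
noncomputable abbrev coRefl : _root_.Adeq.MVF A := cokernel (coRel F)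

/-- The counit of the coreflection. -/
noncomputable abbrev coUnit : coRefl F ⟶ F :=
  cokernel.desc (coRel F) (covπ F) (by rw [Category.assoc, kernel.condition, comp_zero])

lemma adequate_coRefl : _root_.Adeq.adequate A (coRefl F) :=
  adequate_cokernel _ (covered_of_adequate (adequate_cov _)) (adequate_cov F)

variable {F}

lemma comp_π_eq_zero (d : Datum A) (γ : d.L ⟶ cov F) (h : γ ≫ covπ F = 0) : γ ≫ cokernel.π (coRel F) = 0 := by
  have e : γ = Sigma.ι (fun i : Idx (kernel (covπ F)) => i.1.L) ⟨d, kernel.lift _ γ h⟩ ≫ coRel F := by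
    rw [coRel, ← Category.assoc, ι_covπ, kernel.lift_ι]
  rw [e, Category.assoc, cokernel.condition, comp_zero]

variable {G : _root_.Adeq.MVF A} (hG : _root_.Adeq.adequate A G)

include hG

lemma exists_coLift (g : G ⟶ F) : ∃ l : G ⟶ coRefl F, l ≫ coUnit F = g := by
  haveI := epi_covπ hG
  let a : cov G ⟶ cov F := Sigma.desc fun i => Sigma.ι (fun i : Idx F => i.1.L) ⟨i.1, i.2 ≫ g⟩
  have ha : a ≫ covπ F = covπ G ≫ g := Sigma.hom_ext _ _ fun i => by
    rw [← Category.assoc, ← Category.assoc, ι_covπ,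
      show Sigma.ι (fun i : Idx G => i.1.L) i ≫ a = Sigma.ι (fun i : Idx F => i.1.L) ⟨i.1, i.2 ≫ g⟩ from Sigma.ι_desc _ _,
      ι_covπ]
  have hK : _root_.Adeq.adequate A (kernel (covπ G)) := adequate_kernel _ (adequate_cov _) hG
  haveI := epi_covπ hK
  have h0 : kernel.ι (covπ G) ≫ a ≫ cokernel.π (coRel F) = 0 := by
    rw [← cancel_epi (covπ (kernel (covπ G))), comp_zero]
    refine Sigma.hom_ext _ _ fun i => ?_
    rw [← Category.assoc, ι_covπ, comp_zero, ← Category.assoc, ← Category.assoc]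
    refine comp_π_eq_zero i.1 _ ?_
    rw [Category.assoc, ha, Category.assoc, kernel.condition_assoc, zero_comp, comp_zero]
  obtain ⟨l, hl⟩ := CokernelCofork.IsColimit.desc' (Abelian.epiIsCokernelOfKernel _ (limit.isLimit (parallelPair (covπ G) 0)))
    (a ≫ cokernel.π (coRel F)) h0
  replace hl : covπ G ≫ l = a ≫ cokernel.π (coRel F) := hl
  refine ⟨l, (cancel_epi (covπ G)).1 ?_⟩
  rw [← Category.assoc, hl, Category.assoc, cokernel.π_desc, ha]

lemma coLift_unique {l l' : G ⟶ coRefl F} (h : l ≫ coUnit F = l' ≫ coUnit F) : l = l' := by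
  haveI := epi_covπ hG
  rw [← sub_eq_zero, ← cancel_epi (covπ G), comp_zero]
  refine Sigma.hom_ext _ _ fun i => ?_
  rw [← Category.assoc, ι_covπ, comp_zero]
  obtain ⟨γ, hγ⟩ := exists_lift_of_epi i.1 (cokernel.π (coRel F))
    (adequate_kernel _ (adequate_cov F) (adequate_coRefl F)) (i.2 ≫ (l - l'))
  rw [← hγ]
  refine comp_π_eq_zero i.1 γ ?_
  rw [← cokernel.π_desc (coRel F) (covπ F) (by rw [Category.assoc, kernel.condition, comp_zero]), ← Category.assoc, hγ,
    Category.assoc, Preadditive.sub_comp, h, sub_self, comp_zero]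

end Coreflect

/-- The coreflection as an object of the subcategory. -/
noncomputable abbrev coObj (F : _root_.Adeq.MVF A) : _root_.Adeq.Adequate A := ⟨coRefl F, adequate_coRefl F⟩

theorem isLeftAdjoint : (_root_.Adeq.adequate A).ι.IsLeftAdjoint := by
  rw [isLeftAdjoint_iff_hasTerminal_costructuredArrow]
  intro F
  let t : CostructuredArrow (_root_.Adeq.adequate A).ι F := CostructuredArrow.mk (Y := coObj F) (coUnit F)
  have ht : ∀ x : CostructuredArrow (_root_.Adeq.adequate A).ι F, ∃! f : x ⟶ t, True := fun x => by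
    obtain ⟨l, hl⟩ := exists_coLift x.left.property x.hom
    refine ⟨CostructuredArrow.homMk (ObjectProperty.homMk l) hl, trivial, fun f _ => ?_⟩
    apply CostructuredArrow.hom_ext
    apply ObjectProperty.hom_ext
    exact coLift_unique x.left.property ((CostructuredArrow.w f).trans hl.symm)
  exact (IsTerminal.ofUniqueHom (fun x => (ht x).choose) fun x f => (ht x).choose_spec.2 f trivial).hasTerminal

lemma mono_hom {X Y : _root_.Adeq.Adequate A} (f : X ⟶ Y) [Mono f] : Mono f.hom := by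
  refine Preadditive.mono_of_kernel_zero ?_
  let K : _root_.Adeq.Adequate A := ⟨kernel f.hom, adequate_kernel f.hom X.property Y.property⟩
  let i : K ⟶ X := ObjectProperty.homMk (kernel.ι f.hom)
  have h : i = (ObjectProperty.homMk 0 : K ⟶ X) := by
    rw [← cancel_mono f]
    apply ObjectProperty.hom_ext
    show kernel.ι f.hom ≫ f.hom = 0 ≫ f.hom
    rw [kernel.condition, zero_comp]
  exact congrArg (fun m => m.hom) h

theorem enoughInjectives : EnoughInjectives (_root_.Adeq.Adequate A) := by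
  haveI := AdeqInj.enoughInjectives (A := A)
  refine ⟨fun G => ?_⟩
  obtain ⟨l, hl⟩ := exists_coLift G.property (Injective.ι G.obj)
  have hmono : Mono (ObjectProperty.homMk l : G ⟶ coObj (Injective.under G.obj)) := by
    have : Mono l := by
      have : Mono (l ≫ coUnit (Injective.under G.obj)) := by rw [hl]; infer_instance
      exact mono_of_mono l (coUnit _)
    exact ⟨fun a b h => ObjectProperty.hom_ext _ ((cancel_mono l).1 (congrArg (fun m => m.hom) h))⟩
  refine ⟨⟨coObj (Injective.under G.obj), ?_, ObjectProperty.homMk l, hmono⟩⟩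
  refine ⟨fun {X Y} g f _ => ?_⟩
  haveI := mono_hom f
  obtain ⟨m, hm⟩ := exists_coLift Y.property (Injective.factorThru (g.hom ≫ coUnit _) f.hom)
  refine ⟨ObjectProperty.homMk m, ObjectProperty.hom_ext _ (coLift_unique X.property ?_)⟩
  show (f.hom ≫ m) ≫ coUnit _ = g.hom ≫ coUnit _
  rw [Category.assoc, hm, Injective.comp_factorThru]

end Groth.Agent.H54.Adeq
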