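import Groth.Agent.H54.Adeq.Cover
import Mathlib.CategoryTheory.Limits.Preserves.Over
import Mathlib.CategoryTheory.Filtered.Connected
import Mathlib.Algebra.Category.CommAlgCat.Basic
import Mathlib.Algebra.Category.Ring.Under.Limits
import Mathlib.Algebra.Category.Ring.FilteredColimits
import Mathlib.CategoryTheory.Limits.Types.Filtered
import Mathlib.LinearAlgebra.DirectSum.Finsupp
import Mathlib.LinearAlgebra.TensorProduct.Finiteness
import Mathlib.LinearAlgebra.TensorProduct.RightExactness

/-!
# Adequate functors and filtered colimits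
-/

universe u

open CategoryTheory Limits TensorProduct

namespace Groth.Agent.H54.Adeq

variable {A : Type u} [CommRing A] {J : Type u} [SmallCategory J] [IsFiltered J]
  (D : J ⥤ _root_.Adeq.Alg A) {c : Cocone D} (hc : IsColimit c)

/-- The underlying set functor of algebras. -/
noncomputable abbrev algSet : _root_.Adeq.Alg A ⥤ Type u :=
  (commAlgCatEquivUnder (CommRingCat.of A)).functor ⋙ Under.forget (CommRingCat.of A) ⋙ CategoryTheory.forget CommRingCat.{u}

include hc

lemma exists_rep (b : c.pt) : ∃ (i : J) (a : D.obj i), (c.ι.app i).hom a = b :=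
  Types.jointly_surjective _ (isColimitOfPreserves (algSet (A := A)) hc) b

lemma exists_map_eq_zero {i : J} (a : D.obj i) (h : (c.ι.app i).hom a = 0) :
    ∃ (j : J) (f : i ⟶ j), (D.map f).hom a = 0 := by
  have h' : (c.ι.app i).hom a = (c.ι.app i).hom 0 := h.trans (map_zero _).symm
  obtain ⟨j, f, g, hfg⟩ := (Types.FilteredColimit.isColimit_eq_iff _ (isColimitOfPreserves (algSet (A := A)) hc)).1 h'
  exact ⟨j, f, hfg.trans (map_zero (D.map g).hom)⟩

omit hc

lemma rTensor_comp (M : Type (u + 1)) [AddCommGroup M] [Module A M] {i j k : J} (f : i ⟶ j) (g : j ⟶ k)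
    (z : (D.obj i : Type u) ⊗[A] M) :
    (D.map (f ≫ g)).hom.toLinearMap.rTensor M z =
      (D.map g).hom.toLinearMap.rTensor M ((D.map f).hom.toLinearMap.rTensor M z) := by
  rw [Functor.map_comp, ← LinearMap.rTensor_comp_apply]
  rfl

lemma rTensor_ι (M : Type (u + 1)) [AddCommGroup M] [Module A M] {i j : J} (f : i ⟶ j)
    (z : (D.obj i : Type u) ⊗[A] M) :
    (c.ι.app j).hom.toLinearMap.rTensor M ((D.map f).hom.toLinearMap.rTensor M z) =
      (c.ι.app i).hom.toLinearMap.rTensor M z := by
  rw [← c.w f, ← LinearMap.rTensor_comp_apply]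
  rfl

include hc

lemma exists_rep_tensor (M : Type (u + 1)) [AddCommGroup M] [Module A M] (z : (c.pt : Type u) ⊗[A] M) :
    ∃ (i : J) (w : (D.obj i : Type u) ⊗[A] M), (c.ι.app i).hom.toLinearMap.rTensor M w = z := by
  induction z using TensorProduct.induction_on with
  | zero => exact ⟨IsFiltered.nonempty.some, 0, map_zero _⟩
  | tmul b m =>
    obtain ⟨i, a, rfl⟩ := exists_rep D hc b
    exact ⟨i, a ⊗ₜ m, rfl⟩
  | add x y hx hy =>
    obtain ⟨i, v, rfl⟩ := hx
    obtain ⟨j, w, rfl⟩ := hy
    refine ⟨IsFiltered.max i j, (D.map (IsFiltered.leftToMax i j)).hom.toLinearMap.rTensor M v +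
      (D.map (IsFiltered.rightToMax i j)).hom.toLinearMap.rTensor M w, ?_⟩
    rw [map_add, rTensor_ι, rTensor_ι]

lemma exists_finset_eq_zero {N : Type (u + 1)} {i : J} (v : N → D.obj i) (s : Finset N)
    (h : ∀ n ∈ s, (c.ι.app i).hom (v n) = 0) : ∃ (j : J) (f : i ⟶ j), ∀ n ∈ s, (D.map f).hom (v n) = 0 := by
  classical
  induction s using Finset.induction with
  | empty => exact ⟨i, 𝟙 i, fun n hn => absurd hn (Finset.notMem_empty n)⟩
  | insert a s _ ih =>
    obtain ⟨j, f, hf⟩ := ih fun n hn => h n (Finset.mem_insert_of_mem hn)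
    obtain ⟨k, g, hg⟩ := exists_map_eq_zero D hc ((D.map f).hom (v a)) (by
      have := h a (Finset.mem_insert_self a s)
      rw [← c.w f] at this
      exact this)
    refine ⟨k, f ≫ g, fun n hn => ?_⟩
    rw [Functor.map_comp]
    show (D.map g).hom ((D.map f).hom (v n)) = 0
    rcases Finset.mem_insert.1 hn with rfl | hn
    · exact hg
    · rw [hf n hn, map_zero]

lemma exists_free_eq_zero {N : Type (u + 1)} {i : J} (z : (D.obj i : Type u) ⊗[A] (N →₀ A))
    (h : (c.ι.app i).hom.toLinearMap.rTensor (N →₀ A) z = 0) :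
    ∃ (j : J) (f : i ⟶ j), (D.map f).hom.toLinearMap.rTensor (N →₀ A) z = 0 := by
  classical
  have key : ∀ (B : _root_.Adeq.Alg A) (h : D.obj i ⟶ B) (n : N),
      TensorProduct.finsuppScalarRight A A (B : Type u) N (h.hom.toLinearMap.rTensor (N →₀ A) z) n =
        h.hom (TensorProduct.finsuppScalarRight A A (D.obj i : Type u) N z n) := by
    intro B h n
    clear * -
    induction z using TensorProduct.induction_on with
    | zero => simp
    | tmul a v => simp
    | add x y hx hy => simp only [map_add, Finsupp.add_apply, hx, hy]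
  obtain ⟨j, f, hf⟩ := exists_finset_eq_zero D hc (fun n => TensorProduct.finsuppScalarRight A A (D.obj i : Type u) N z n)
    (TensorProduct.finsuppScalarRight A A (D.obj i : Type u) N z).support (fun n _ => by
      rw [← key c.pt (c.ι.app i) n, h, map_zero]
      rfl)
  refine ⟨j, f, (TensorProduct.finsuppScalarRight A A (D.obj j : Type u) N).injective ?_⟩
  rw [map_zero]
  ext n
  rw [key, Finsupp.zero_apply]
  by_cases hn : n ∈ (TensorProduct.finsuppScalarRight A A (D.obj i : Type u) N z).support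
  · exact hf n hn
  · rw [Finsupp.notMem_support_iff.1 hn, map_zero]

lemma exists_tensor_eq_zero (N : Type (u + 1)) [AddCommGroup N] [Module A N] {i : J}
    (z : (D.obj i : Type u) ⊗[A] N) (h : (c.ι.app i).hom.toLinearMap.rTensor N z = 0) :
    ∃ (j : J) (f : i ⟶ j), (D.map f).hom.toLinearMap.rTensor N z = 0 := by
  let π : (N →₀ A) →ₗ[A] N := Finsupp.linearCombination A id
  have hπ : Function.Surjective π := fun v =>
    ⟨Finsupp.single v (1 : A), (Finsupp.linearCombination_single A (1 : A) v).trans (one_smul A _)⟩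
  obtain ⟨y, rfl⟩ := LinearMap.lTensor_surjective (D.obj i : Type u) hπ z
  rw [← LinearMap.comp_apply, LinearMap.rTensor_comp_lTensor, ← LinearMap.lTensor_comp_rTensor, LinearMap.comp_apply] at h
  obtain ⟨w, hw⟩ := exists_ker_lift (c.pt : Type u) π hπ _ h
  obtain ⟨j, w', rfl⟩ := exists_rep_tensor D hc (LinearMap.ker π) w
  let k := IsFiltered.max i j
  let d : (D.obj k : Type u) ⊗[A] (N →₀ A) :=
    (D.map (IsFiltered.leftToMax i j)).hom.toLinearMap.rTensor (N →₀ A) y -
      (D.map (IsFiltered.rightToMax i j)).hom.toLinearMap.rTensor (N →₀ A)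
        ((LinearMap.ker π).subtype.lTensor (D.obj j : Type u) w')
  obtain ⟨l, g, hg⟩ := exists_free_eq_zero D hc d (by
    rw [map_sub, rTensor_ι, rTensor_ι, ← hw, sub_eq_zero, ← LinearMap.comp_apply, ← LinearMap.comp_apply,
      LinearMap.lTensor_comp_rTensor, LinearMap.rTensor_comp_lTensor])
  refine ⟨l, IsFiltered.leftToMax i j ≫ g, ?_⟩
  have h2 := congrArg (π.lTensor (D.obj l : Type u)) hg
  rw [map_sub, map_sub, map_zero, ← rTensor_comp, ← rTensor_comp] at h2
  simp only [← LinearMap.comp_apply, LinearMap.lTensor_comp_rTensor, ← LinearMap.rTensor_comp_lTensor] at h2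
  simp only [LinearMap.comp_apply] at h2
  have z0 : ∀ e : D.obj j ⟶ D.obj l, π.lTensor (D.obj l : Type u)
      (e.hom.toLinearMap.rTensor (N →₀ A) ((LinearMap.ker π).subtype.lTensor (D.obj j : Type u) w')) = 0 := by
    intro e
    clear * -
    induction w' using TensorProduct.induction_on with
    | zero => simp
    | tmul a v =>
      rw [LinearMap.lTensor_tmul, LinearMap.rTensor_tmul, LinearMap.lTensor_tmul, Submodule.subtype_apply,
        LinearMap.mem_ker.1 v.2, TensorProduct.tmul_zero]
    | add x y hx hy => simp only [map_add, hx, hy, add_zero]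
  rw [z0, sub_zero] at h2
  exact h2

variable {F : _root_.Adeq.MVF A}

lemma exists_rep_value (hF : _root_.Adeq.adequate A F) (x : Val F c.pt) :
    ∃ (i : J) (y : Val F (D.obj i)), mp F (c.ι.app i) y = x := by
  obtain ⟨M, N, g, ι, hι⟩ := exists_isKer hF
  obtain ⟨i, w, hw⟩ := exists_rep_tensor D hc M (ap ι c.pt x)
  obtain ⟨j, f, hf⟩ := exists_tensor_eq_zero D hc N (g.hom.lTensor (D.obj i : Type u) w) (by
    rw [← LinearMap.comp_apply, LinearMap.rTensor_comp_lTensor, ← LinearMap.lTensor_comp_rTensor, LinearMap.comp_apply, hw]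
    exact (hι.exact c.pt).apply_apply_eq_zero x)
  rw [← LinearMap.comp_apply, LinearMap.rTensor_comp_lTensor, ← LinearMap.lTensor_comp_rTensor, LinearMap.comp_apply] at hf
  obtain ⟨y, hy⟩ := (hι.exact (D.obj j) ((D.map f).hom.toLinearMap.rTensor M w)).mp hf
  refine ⟨j, y, hι.inj c.pt ?_⟩
  rw [ap_mp, hy, mp_U, rTensor_ι, hw]

lemma exists_map_value_eq_zero (hF : _root_.Adeq.adequate A F) {i : J} (y : Val F (D.obj i))
    (h : mp F (c.ι.app i) y = 0) : ∃ (j : J) (f : i ⟶ j), mp F (D.map f) y = 0 := by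
  obtain ⟨M, N, g, ι, hι⟩ := exists_isKer hF
  have h' := congrArg (ap ι c.pt) h
  rw [ap_mp, map_zero] at h'
  obtain ⟨j, f, hf⟩ := exists_tensor_eq_zero D hc M (ap ι (D.obj i) y) h'
  refine ⟨j, f, hι.inj _ ?_⟩
  rw [ap_mp, map_zero]
  exact hf

theorem isColimit_toAb (hF : _root_.Adeq.adequate A F) : Nonempty (IsColimit (F.toAb.mapCocone c)) := by
  choose idx rep hrep using fun x : Val F c.pt => exists_rep_value D hc hF x
  have hwell : ∀ (s : Cocone (D ⋙ F.toAb)) {i j : J} (y : Val F (D.obj i)) (z : Val F (D.obj j)),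
      mp F (c.ι.app i) y = mp F (c.ι.app j) z → (s.ι.app i).hom y = (s.ι.app j).hom z := by
    intro s i j y z h
    have h0 : mp F (c.ι.app (IsFiltered.max i j)) (mp F (D.map (IsFiltered.leftToMax i j)) y -
        mp F (D.map (IsFiltered.rightToMax i j)) z) = 0 := by
      rw [map_sub, ← mp_comp, ← mp_comp, c.w, c.w, h, sub_self]
    obtain ⟨k, f, hf⟩ := exists_map_value_eq_zero D hc hF _ h0
    rw [map_sub, ← mp_comp, ← mp_comp, sub_eq_zero, ← D.map_comp, ← D.map_comp] at hf
    have h1 := congr(AddCommGrpCat.Hom.hom $(s.w (IsFiltered.leftToMax i j ≫ f)) y)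
    have h2 := congr(AddCommGrpCat.Hom.hom $(s.w (IsFiltered.rightToMax i j ≫ f)) z)
    exact (h1.symm.trans (congrArg (s.ι.app k).hom hf)).trans h2
  refine ⟨{ desc := fun s => AddCommGrpCat.ofHom
              (AddMonoidHom.mk' (fun x => (s.ι.app (idx x)).hom (rep x)) ?_)
            fac := ?_
            uniq := ?_ }⟩
  · intro x y
    let k := IsFiltered.max (idx x) (idx y)
    let a := mp F (D.map (IsFiltered.leftToMax (idx x) (idx y))) (rep x)
    let b := mp F (D.map (IsFiltered.rightToMax (idx x) (idx y))) (rep y)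
    have ha : mp F (c.ι.app k) a = x := by rw [← mp_comp, c.w, hrep]
    have hb : mp F (c.ι.app k) b = y := by rw [← mp_comp, c.w, hrep]
    rw [hwell s (rep (x + y)) (a + b) (by rw [hrep, map_add, ha, hb]),
      hwell s (rep x) a (by rw [hrep, ha]), hwell s (rep y) b (by rw [hrep, hb])]
    exact map_add _ a b
  · intro s i
    refine AddCommGrpCat.hom_ext (AddMonoidHom.ext fun y => ?_)
    exact hwell s (rep (mp F (c.ι.app i) y)) y (hrep _)
  · intro s m hm
    refine AddCommGrpCat.hom_ext (AddMonoidHom.ext fun x => ?_)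
    show m.hom x = (s.ι.app (idx x)).hom (rep x)
    rw [← hm (idx x)]
    exact congrArg m.hom (hrep x).symm

end Groth.Agent.H54.Adeq
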