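import Groth.Agent.H54.Adeq.Basic
import Mathlib.RingTheory.Flat.FaithfullyFlat.Algebra
import Mathlib.RingTheory.Localization.Away.Basic
import Mathlib.FieldTheory.RatFunc.Basic
import Mathlib.Algebra.Polynomial.Basic
import Mathlib.RingTheory.Flat.Localization
import Mathlib.RingTheory.RingHom.FaithfullyFlat
import Mathlib.RingTheory.RingHom.Flat

/-!
# Flat base change of module-valued functors
-/

universe u

open CategoryTheory Limits TensorProduct Polynomial

namespace Groth.Agent.H54.Adeq

variable {A : Type u} [CommRing A]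

lemma bc_one_tmul (F : _root_.Adeq.MVF A) {B B' : _root_.Adeq.Alg A} (f : B ⟶ B') (x : Val F B) :
    letI : Algebra B B' := f.hom.toRingHom.toAlgebra
    (F.bc f).hom ((1 : B') ⊗ₜ[B] x) = mp F f x := by
  letI : Algebra B B' := f.hom.toRingHom.toAlgebra
  show _ = F.map (_root_.Adeq.ptHom f) x
  have h := ModuleCat.extendRestrictScalarsAdj_homEquiv_apply.{u + 1, u, u} (f := f.hom.toRingHom) (F.bc f) x
  refine h.symm.trans ?_
  rw [_root_.Adeq.MVF.bc, Equiv.apply_symm_apply]

lemma injective_mp_of_faithfullyFlat (G : _root_.Adeq.MVF A) {B B' : _root_.Adeq.Alg A} (f : B ⟶ B')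
    (hf : f.hom.toRingHom.FaithfullyFlat) [IsIso (G.bc f)] : Function.Injective (mp G f) := by
  letI : Algebra B B' := f.hom.toRingHom.toAlgebra
  haveI : Module.FaithfullyFlat B B' := hf
  intro x y h
  apply Module.FaithfullyFlat.tensorProduct_mk_injective (A := (B : Type u)) (B := (B' : Type u)) (Val G B)
  rw [← bc_one_tmul G f x, ← bc_one_tmul G f y] at h
  exact (ConcreteCategory.bijective_of_isIso (G.bc f)).1 h

section Units

variable (B : _root_.Adeq.Alg A) (b : B)

/-- The polynomial `X (X + b)`. -/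
noncomputable abbrev upoly : (B : Type u)[X] := X * (X + C b)

/-- The algebra with `X` and `X + b` invertible. -/
noncomputable abbrev UAlg : _root_.Adeq.Alg A := _root_.Adeq.algOf A (Localization.Away (upoly B b))

/-- The inclusion. -/
noncomputable def uincl : B ⟶ UAlg B b :=
  CommAlgCat.ofHom (IsScalarTower.toAlgHom A (B : Type u) (Localization.Away (upoly B b)))

lemma faithfullyFlat_uincl : (uincl B b).hom.toRingHom.FaithfullyFlat := by
  show (algebraMap (B : Type u) (Localization.Away (upoly B b))).FaithfullyFlat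
  rw [RingHom.faithfullyFlat_algebraMap_iff]
  haveI : Module.Flat (B : Type u)[X] (Localization.Away (upoly B b)) :=
    IsLocalization.flat _ (Submonoid.powers (upoly B b))
  haveI : Module.Flat (B : Type u) (Localization.Away (upoly B b)) :=
    Module.Flat.trans (B : Type u) (B : Type u)[X] _
  refine Module.FaithfullyFlat.of_comap_surjective fun p => ?_
  let K := FractionRing ((B : Type u) ⧸ p.asIdeal)
  let ψ₀ : (B : Type u) →+* K := (algebraMap _ K).comp (Ideal.Quotient.mk p.asIdeal)
  let ψ : (B : Type u)[X] →+* RatFunc K := (algebraMap K[X] (RatFunc K)).comp (Polynomial.mapRingHom ψ₀)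
  have hu : IsUnit (ψ (upoly B b)) := by
    refine isUnit_iff_ne_zero.2 ?_
    simp only [ψ, RingHom.comp_apply, upoly, map_mul, map_add, coe_mapRingHom, Polynomial.map_X, Polynomial.map_C]
    refine mul_ne_zero ?_ ?_
    · exact (map_ne_zero_iff _ (RatFunc.algebraMap_injective K)).2 X_ne_zero
    · rw [← map_add]
      exact (map_ne_zero_iff _ (RatFunc.algebraMap_injective K)).2 (X_add_C_ne_zero _)
  let Ψ : Localization.Away (upoly B b) →+* RatFunc K := IsLocalization.Away.lift (upoly B b) hu
  refine ⟨⟨RingHom.ker Ψ, RingHom.ker_isPrime Ψ⟩, PrimeSpectrum.ext ?_⟩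
  show Ideal.comap (algebraMap (B : Type u) (Localization.Away (upoly B b))) (RingHom.ker Ψ) = p.asIdeal
  ext c
  rw [Ideal.mem_comap, RingHom.mem_ker, IsScalarTower.algebraMap_apply (B : Type u) (B : Type u)[X],
    IsLocalization.Away.lift_eq]
  simp only [ψ, RingHom.comp_apply, Polynomial.algebraMap_eq, coe_mapRingHom, Polynomial.map_C]
  rw [map_eq_zero_iff _ (RatFunc.algebraMap_injective K), C_eq_zero]
  show algebraMap _ K (Ideal.Quotient.mk p.asIdeal c) = 0 ↔ _
  rw [map_eq_zero_iff _ (IsFractionRing.injective _ K), Ideal.Quotient.eq_zero_iff_mem]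

theorem smul_comm (F G : _root_.Adeq.MVF A) (φ : ∀ B : _root_.Adeq.Alg A, Val F B → Val G B)
    (hnat : ∀ ⦃B B' : _root_.Adeq.Alg A⦄ (f : B ⟶ B') (x : Val F B), φ B' (mp F f x) = mp G f (φ B x))
    (hadd : ∀ (B : _root_.Adeq.Alg A) (x y : Val F B), φ B (x + y) = φ B x + φ B y)
    (hunit : ∀ (B : _root_.Adeq.Alg A) (v : (B : Type u)ˣ) (x : Val F B), φ B ((v : B) • x) = (v : B) • φ B x)
    (hG : ∀ ⦃B B' : _root_.Adeq.Alg A⦄ (f : B ⟶ B'), f.hom.toRingHom.Flat → IsIso (G.bc f))
    (x : Val F B) : φ B (b • x) = b • φ B x := by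
  have hff := faithfullyFlat_uincl B b
  haveI := hG (uincl B b) hff.flat
  apply injective_mp_of_faithfullyFlat G (uincl B b) hff
  rw [← hnat, mp_smul, mp_smul, ← hnat]
  generalize mp F (uincl B b) x = y
  let j := algebraMap (B : Type u)[X] (Localization.Away (upoly B b))
  have hb : (uincl B b).hom b = j (C b) :=
    (IsScalarTower.algebraMap_apply (B : Type u) (B : Type u)[X] (Localization.Away (upoly B b)) b)
  have hu : IsUnit (j X * j (X + C b)) := by
    rw [← map_mul]
    exact IsLocalization.Away.algebraMap_isUnit (upoly B b)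
  obtain ⟨v, hv⟩ : IsUnit (j X) := isUnit_of_mul_isUnit_left hu
  obtain ⟨w, hw⟩ : IsUnit (j (X + C b)) := isUnit_of_mul_isUnit_right hu
  have key := hunit (UAlg B b) w y
  rw [hw, map_add, add_smul, hadd, ← hv, hunit, add_smul, add_right_inj] at key
  rw [hb]
  exact key

end Units

end Groth.Agent.H54.Adeq
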