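import Groth.Agent.H54.Adeq.Basic
import Mathlib.Algebra.DualNumber
import Mathlib.Algebra.MvPolynomial.CommRing
import Mathlib.LinearAlgebra.Basis.Basic
import Mathlib.RingTheory.Ideal.Quotient.Operations

/-!
# Morphisms out of linearly adequate functors
-/

universe u

open CategoryTheory Limits TensorProduct

namespace Groth.Agent.H54.Adeq

variable {A : Type u} [CommRing A]

section Coord

variable {P : ModuleCat.{u + 1} A} {ι : Type*} [Fintype ι] (e : Module.Basis ι A P) (B : _root_.Adeq.Alg A)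

/-- Coordinates in a scalar extension of a free module. -/
noncomputable def crd (j : ι) : B ⊗[A] P →ₗ[A] B :=
  (TensorProduct.rid A (B : Type u)).toLinearMap ∘ₗ (e.coord j).lTensor (B : Type u)

lemma crd_tmul (j : ι) (b : B) (p : P) : crd e B j (b ⊗ₜ p) = e.coord j p • b := by
  simp [crd]

lemma sum_crd (z : B ⊗[A] P) : ∑ j, crd e B j z ⊗ₜ[A] e j = z := by
  induction z using TensorProduct.induction_on with
  | zero => simp
  | tmul b p =>
    simp only [crd_tmul, TensorProduct.smul_tmul, ← TensorProduct.tmul_sum, Module.Basis.coord_apply, e.sum_repr]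
  | add x y hx hy => simp only [map_add, TensorProduct.add_tmul, Finset.sum_add_distrib, hx, hy]

lemma crd_sum (b : ι → B) (i : ι) : crd e B i (∑ j, b j ⊗ₜ[A] e j) = b i := by
  classical
  simp [crd_tmul, Finsupp.single_apply, ite_smul, Finset.sum_ite_eq', eq_comm]

end Coord

variable {P P' : ModuleCat.{u + 1} A} {n m : ℕ} (e : Module.Basis (Fin n) A P) (e' : Module.Basis (Fin m) A P')
  (φ₀ : P ⟶ P')

/-- The linear forms cutting out the kernel. -/
noncomputable def form (i : Fin m) : MvPolynomial (Fin n) A :=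
  ∑ j, MvPolynomial.C (e'.repr (φ₀ (e j)) i) * MvPolynomial.X j

/-- The ring carrying the universal solution. -/
abbrev R0 : Type u := MvPolynomial (Fin n) A ⧸ Ideal.span (Set.range (form e e' φ₀))

/-- The algebra carrying the universal solution. -/
noncomputable abbrev B0 : _root_.Adeq.Alg A := _root_.Adeq.algOf A (R0 e e' φ₀)

/-- The universal coordinates. -/
noncomputable def xi (j : Fin n) : B0 e e' φ₀ := Ideal.Quotient.mk _ (MvPolynomial.X j)

variable {e e' φ₀} in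
lemma lTensor_eq_zero_iff {B : _root_.Adeq.Alg A} (b : Fin n → B) :
    φ₀.hom.lTensor (B : Type u) (∑ j, b j ⊗ₜ[A] e j) = 0 ↔ ∀ i, ∑ j, e'.repr (φ₀ (e j)) i • b j = 0 := by
  have h : ∀ i, crd e' B i (φ₀.hom.lTensor (B : Type u) (∑ j, b j ⊗ₜ[A] e j)) =
      ∑ j, e'.repr (φ₀ (e j)) i • b j := fun i => by simp [crd_tmul]
  refine ⟨fun h0 i => ?_, fun h0 => ?_⟩
  · rw [← h, h0, map_zero]
  · rw [← sum_crd e' B (φ₀.hom.lTensor (B : Type u) (∑ j, b j ⊗ₜ[A] e j))]
    exact Finset.sum_eq_zero fun i _ => by rw [h, h0, TensorProduct.zero_tmul]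

lemma xi_mem : φ₀.hom.lTensor (B0 e e' φ₀ : Type u) (∑ j, xi e e' φ₀ j ⊗ₜ[A] e j) = 0 := by
  refine (lTensor_eq_zero_iff (e' := e') _).2 fun i => ?_
  calc ∑ j, e'.repr (φ₀ (e j)) i • xi e e' φ₀ j = Ideal.Quotient.mk _ (form e e' φ₀ i) := by
        rw [form, map_sum]
        exact Finset.sum_congr rfl fun j _ => by
          rw [map_mul]
          exact Algebra.smul_def (A := R0 e e' φ₀) _ _
    _ = 0 := Ideal.Quotient.eq_zero_iff_mem.2 (Ideal.subset_span ⟨i, rfl⟩)

/-- The algebra map classifying a solution. -/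
noncomputable def classifyHom {B : _root_.Adeq.Alg A} (b : Fin n → B)
    (hb : ∀ i, ∑ j, e'.repr (φ₀ (e j)) i • b j = 0) : R0 e e' φ₀ →ₐ[A] B :=
  Ideal.Quotient.liftₐ (Ideal.span (Set.range (form e e' φ₀))) (MvPolynomial.aeval b) fun p hp => by
    rw [← RingHom.mem_ker]
    refine (Ideal.span_le.2 ?_) hp
    rintro _ ⟨i, rfl⟩
    simpa [form, Algebra.smul_def] using hb i

/-- The map classifying a solution. -/
noncomputable def classify {B : _root_.Adeq.Alg A} (b : Fin n → B)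
    (hb : ∀ i, ∑ j, e'.repr (φ₀ (e j)) i • b j = 0) : B0 e e' φ₀ ⟶ B :=
  CommAlgCat.ofHom (classifyHom e e' φ₀ b hb)

lemma classify_xi {B : _root_.Adeq.Alg A} (b : Fin n → B)
    (hb : ∀ i, ∑ j, e'.repr (φ₀ (e j)) i • b j = 0) (j : Fin n) :
    (classify e e' φ₀ b hb).hom (xi e e' φ₀ j) = b j := by
  show classifyHom e e' φ₀ b hb (Ideal.Quotient.mk _ (MvPolynomial.X j)) = b j
  exact MvPolynomial.aeval_X b j

variable {F : _root_.Adeq.MVF A} {ι : F ⟶ U P}

lemma exists_univ (h : IsKer ι φ₀) : ∃ k : Val F (B0 e e' φ₀),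
    ap ι (B0 e e' φ₀) k = (∑ j, xi e e' φ₀ j ⊗ₜ[A] e j : (B0 e e' φ₀ : Type u) ⊗[A] P) :=
  (h.exact _ _).mp (xi_mem e e' φ₀)

variable {e e' φ₀}

/-- The universal element generates. -/
lemma exists_classify (h : IsKer ι φ₀) {k : Val F (B0 e e' φ₀)}
    (hk : ap ι (B0 e e' φ₀) k = (∑ j, xi e e' φ₀ j ⊗ₜ[A] e j : (B0 e e' φ₀ : Type u) ⊗[A] P))
    {B : _root_.Adeq.Alg A} (x : Val F B) (b : Fin n → B) (hx : ap ι B x = (∑ j, b j ⊗ₜ[A] e j : B ⊗[A] P)) :
    ∃ f : B0 e e' φ₀ ⟶ B, mp F f k = x ∧ ∀ j, f.hom (xi e e' φ₀ j) = b j := by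
  have hb : ∀ i, ∑ j, e'.repr (φ₀ (e j)) i • b j = 0 := by
    refine (lTensor_eq_zero_iff b).1 ?_
    have := (h.exact B).apply_apply_eq_zero x
    rw [hx] at this
    exact this
  refine ⟨classify e e' φ₀ b hb, h.inj B ?_, classify_xi e e' φ₀ b hb⟩
  rw [ap_mp, hk, hx, mp_U, map_sum]
  refine Finset.sum_congr rfl fun j _ => ?_
  rw [LinearMap.rTensor_tmul, AlgHom.toLinearMap_apply, classify_xi e e' φ₀ b hb]

section Dual

variable (e e' φ₀)

/-- The square-zero algebra over the universal one. -/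
noncomputable abbrev D0 : _root_.Adeq.Alg A := _root_.Adeq.algOf A (DualNumber (R0 e e' φ₀))

/-- The constants. -/
noncomputable def cst : B0 e e' φ₀ ⟶ D0 e e' φ₀ :=
  CommAlgCat.ofHom (TrivSqZeroExt.inlAlgHom A (R0 e e' φ₀) (R0 e e' φ₀))

lemma eps_relation (i : Fin m) :
    ∑ j, e'.repr (φ₀ (e j)) i • (TrivSqZeroExt.inr (xi e e' φ₀ j) : D0 e e' φ₀) = 0 := by
  have h := (lTensor_eq_zero_iff (e' := e') (B := B0 e e' φ₀) (xi e e' φ₀)).1 (xi_mem e e' φ₀) i
  calc _ = (TrivSqZeroExt.inr (∑ j, e'.repr (φ₀ (e j)) i • xi e e' φ₀ j) : DualNumber (R0 e e' φ₀)) := by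
        rw [← TrivSqZeroExt.inrHom_apply (R := R0 e e' φ₀), map_sum]
        exact Finset.sum_congr rfl fun j _ => (TrivSqZeroExt.inr_smul _ _ _).symm
    _ = 0 := by rw [h]; exact TrivSqZeroExt.inr_zero _

/-- Scaling the universal solution by an infinitesimal. -/
noncomputable def scl : B0 e e' φ₀ ⟶ D0 e e' φ₀ :=
  classify e e' φ₀ (fun j => TrivSqZeroExt.inr (xi e e' φ₀ j)) (eps_relation e e' φ₀)

lemma snd_aeval (p : MvPolynomial (Fin n) A) :
    TrivSqZeroExt.fst (MvPolynomial.aeval (R := A) (fun j => (TrivSqZeroExt.inr (xi e e' φ₀ j) : DualNumber (R0 e e' φ₀))) p) =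
        algebraMap A (R0 e e' φ₀) (MvPolynomial.constantCoeff p) ∧
      TrivSqZeroExt.snd (MvPolynomial.aeval (R := A) (fun j => (TrivSqZeroExt.inr (xi e e' φ₀ j) : DualNumber (R0 e e' φ₀))) p) =
        ∑ j, MvPolynomial.coeff (Finsupp.single j 1) p • xi e e' φ₀ j := by
  classical
  induction p using MvPolynomial.induction_on with
  | C a =>
    simp [TrivSqZeroExt.algebraMap_eq_inl', MvPolynomial.coeff_C, (Finsupp.single_ne_zero.2 (one_ne_zero (α := ℕ))).symm]
  | add p q hp hq =>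
    simp only [map_add, TrivSqZeroExt.fst_add, TrivSqZeroExt.snd_add, hp.1, hp.2, hq.1, hq.2, MvPolynomial.coeff_add, add_smul,
      Finset.sum_add_distrib, and_self]
  | mul_X p i hp =>
    constructor
    · simp
    · rw [map_mul, MvPolynomial.aeval_X, TrivSqZeroExt.snd_mul]
      simp only [TrivSqZeroExt.snd_inr, TrivSqZeroExt.fst_inr, smul_eq_mul, MulOpposite.op_zero, zero_smul, zero_mul, mul_zero, add_zero, hp.1]
      rw [Finset.sum_eq_single i]
      · rw [MvPolynomial.coeff_mul_X', if_pos (by simp), tsub_self]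
        simp [MvPolynomial.constantCoeff_eq]
        exact (Algebra.smul_def (A := R0 e e' φ₀) _ _).symm
      · intro j _ hji
        rw [MvPolynomial.coeff_mul_X', if_neg (by simp [Finsupp.single_apply, Ne.symm hji]), zero_smul]
      · simp

/-- Every element of the scalar extension killed by the degree-one test is linear. -/
lemma eq_linear (M : ModuleCat.{u + 1} A) (w : (B0 e e' φ₀ : Type u) ⊗[A] M)
    (hw : (scl e e' φ₀).hom.toLinearMap.rTensor M w =
      (TrivSqZeroExt.inr (1 : R0 e e' φ₀) : D0 e e' φ₀) • (cst e e' φ₀).hom.toLinearMap.rTensor M w) :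
    ∃ c : Fin n → M, w = ∑ j, xi e e' φ₀ j ⊗ₜ[A] c j := by
  let s : DualNumber (R0 e e' φ₀) →ₗ[A] R0 e e' φ₀ :=
    (TrivSqZeroExt.sndHom (R0 e e' φ₀) (R0 e e' φ₀)).restrictScalars A
  have h1 : s.rTensor M ((TrivSqZeroExt.inr (1 : R0 e e' φ₀) : D0 e e' φ₀) •
      (cst e e' φ₀).hom.toLinearMap.rTensor M w) = w := by
    clear hw
    induction w using TensorProduct.induction_on with
    | zero => simp
    | tmul r x =>
      rw [LinearMap.rTensor_tmul, TensorProduct.smul_tmul', LinearMap.rTensor_tmul]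
      congr 1
      show TrivSqZeroExt.snd ((TrivSqZeroExt.inr (1 : R0 e e' φ₀) : DualNumber (R0 e e' φ₀)) * TrivSqZeroExt.inl r) = r
      simp
    | add x y hx hy => rw [map_add, smul_add, map_add, hx, hy]
  rw [← hw] at h1
  obtain ⟨z, rfl⟩ := LinearMap.rTensor_surjective M (g := (Ideal.Quotient.mkₐ A (Ideal.span (Set.range (form e e' φ₀)))).toLinearMap)
    Ideal.Quotient.mk_surjective w
  refine ⟨fun j => TensorProduct.lid A M ((MvPolynomial.lcoeff A (Finsupp.single j 1)).rTensor M z), h1.symm.trans ?_⟩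
  clear hw h1
  induction z using TensorProduct.induction_on with
  | zero => simp
  | tmul p x =>
    simp only [LinearMap.rTensor_tmul, AlgHom.toLinearMap_apply, TensorProduct.lid_tmul]
    simp only [← TensorProduct.smul_tmul, ← TensorProduct.sum_tmul]
    congr 1
    show TrivSqZeroExt.snd (MvPolynomial.aeval (R := A) (fun j => (TrivSqZeroExt.inr (xi e e' φ₀ j) : DualNumber (R0 e e' φ₀))) p) = _
    exact (snd_aeval e e' φ₀ p).2
  | add x y hx hy =>
    simp only [map_add, TensorProduct.tmul_add, Finset.sum_add_distrib]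
    rw [hx, hy]

lemma mp_scl (h : IsKer ι φ₀) {k : Val F (B0 e e' φ₀)}
    (hk : ap ι (B0 e e' φ₀) k = (∑ j, xi e e' φ₀ j ⊗ₜ[A] e j : (B0 e e' φ₀ : Type u) ⊗[A] P)) :
    mp F (scl e e' φ₀) k = (TrivSqZeroExt.inr (1 : R0 e e' φ₀) : D0 e e' φ₀) • mp F (cst e e' φ₀) k := by
  apply h.inj
  rw [map_smul, ap_mp, ap_mp, hk, mp_U, mp_U, map_sum, map_sum]
  show (_ : (D0 e e' φ₀ : Type u) ⊗[A] P) = (_ : D0 e e' φ₀) • (_ : (D0 e e' φ₀ : Type u) ⊗[A] P)
  refine Eq.trans ?_ Finset.smul_sum.symm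
  refine Finset.sum_congr rfl fun j _ => ?_
  show _ = (_ : D0 e e' φ₀) • ((cst e e' φ₀).hom (xi e e' φ₀ j) ⊗ₜ[A] e j : (D0 e e' φ₀ : Type u) ⊗[A] P)
  rw [LinearMap.rTensor_tmul, AlgHom.toLinearMap_apply, TensorProduct.smul_tmul']
  congr 1
  rw [scl, classify_xi]
  show TrivSqZeroExt.inr (xi e e' φ₀ j) = (TrivSqZeroExt.inr (1 : R0 e e' φ₀) : DualNumber (R0 e e' φ₀)) *
    TrivSqZeroExt.inl (xi e e' φ₀ j)
  ext <;> simp

end Dual

/-- Morphisms out of a linearly adequate functor extend to the ambient free module. -/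
theorem exists_extension (e : Module.Basis (Fin n) A P) (e' : Module.Basis (Fin m) A P') (h : IsKer ι φ₀)
    {M : ModuleCat.{u + 1} A} (η : F ⟶ U M) : ∃ g : P ⟶ M, ι ≫ Um g = η := by
  obtain ⟨k, hk⟩ := exists_univ e e' φ₀ h
  obtain ⟨c, hc⟩ := eq_linear e e' φ₀ M (ap η (B0 e e' φ₀) k) (by
    rw [← mp_U M (scl e e' φ₀), ← ap_mp, mp_scl e e' φ₀ h hk, map_smul, ap_mp]
    rfl)
  refine ⟨ModuleCat.ofHom (e.constr A c), hom_ext fun B x => ?_⟩
  obtain ⟨f, rfl, hf⟩ := exists_classify h hk x (fun j => crd e B j (ap ι B x)) (sum_crd e B _).symm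
  rw [ap_comp, ap_mp, ap_mp, ap_mp, hk, hc, mp_U, mp_U, ap_Um]
  simp

end Groth.Agent.H54.Adeq
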