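import Groth.Agent.H54.Adeq.Basic
import Mathlib.RingTheory.TensorProduct.Maps

/-!
# Change of the base ring for adequate functors
-/

universe u

open CategoryTheory Limits TensorProduct

namespace Groth.Agent.H54.Adeq

variable {A A' : Type u} [CommRing A] [CommRing A'] [Algebra A A']

section Restr

/-- An algebra over the larger ring, seen over the smaller one. -/
abbrev res (B : _root_.Adeq.Alg A') : _root_.Adeq.Alg A := (_root_.Adeq.Alg.restr A A').obj B

instance res_tower (B : _root_.Adeq.Alg A') :
    letI : Algebra A' (res (A := A) B) := B.algebra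
    IsScalarTower A A' (res (A := A) B) :=
  letI : Algebra A' (res (A := A) B) := B.algebra
  IsScalarTower.of_algebraMap_eq fun _ => rfl

/-- The comparison `B ⊗[A] M → B ⊗[A'] (A' ⊗[A] M)`. -/
noncomputable def resEquiv (M : ModuleCat.{u + 1} A) (B : _root_.Adeq.Alg A') :
    (res (A := A) B : Type u) ⊗[A] M ≃ₗ[(B : Type u)] (B : Type u) ⊗[A'] (ModuleCat.of A' (A' ⊗[A] M)) :=
  letI : Algebra A' (res (A := A) B) := B.algebra
  (TensorProduct.AlgebraTensorModule.cancelBaseChange A A' (res (A := A) B : Type u) (res (A := A) B : Type u) M).symm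

lemma resEquiv_tmul (M : ModuleCat.{u + 1} A) (B : _root_.Adeq.Alg A') (b : res (A := A) B) (m : M) :
    resEquiv M B (b ⊗ₜ[A] m) = (b : (B : Type u)) ⊗ₜ[A'] ((1 : A') ⊗ₜ[A] m) := rfl

theorem adequate_restr {F : _root_.Adeq.MVF A} (hF : _root_.Adeq.adequate A F) :
    _root_.Adeq.adequate A' ((_root_.Adeq.restr A A').obj F) := by
  obtain ⟨M, N, g, ι, hι⟩ := exists_isKer hF
  let M' : ModuleCat.{u + 1} A' := ModuleCat.of A' (A' ⊗[A] M)
  let N' : ModuleCat.{u + 1} A' := ModuleCat.of A' (A' ⊗[A] N)
  let g' : M' ⟶ N' := ModuleCat.ofHom (g.hom.baseChange A')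
  let f : ∀ B : _root_.Adeq.Alg A', Val ((_root_.Adeq.restr A A').obj F) B →ₗ[(B : Type u)] Val (U M') B := fun B =>
    { toFun := fun x => resEquiv M B (ap ι (res (A := A) B) x)
      map_add' := fun x y => (congrArg (resEquiv M B) (map_add (ap ι (res (A := A) B)) x y)).trans (map_add _ _ _)
      map_smul' := fun c x => (congrArg (resEquiv M B) (map_smul (ap ι (res (A := A) B)) (c : res (A := A) B) x)).trans
        (map_smul (resEquiv M B) c _) }
  have hf : ∀ ⦃B B' : _root_.Adeq.Alg A'⦄ (h : B ⟶ B') (x : Val ((_root_.Adeq.restr A A').obj F) B),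
      f B' (mp ((_root_.Adeq.restr A A').obj F) h x) = mp (U M') h (f B x) := by
    intro B B' h x
    show resEquiv M B' (ap ι (res (A := A) B') (mp F ((_root_.Adeq.Alg.restr A A').map h) x)) =
      h.hom.toLinearMap.rTensor M' (resEquiv M B (ap ι (res (A := A) B) x))
    rw [ap_mp, mp_U]
    generalize (ap ι (res (A := A) B) x : (res (A := A) B : Type u) ⊗[A] M) = w
    induction w using TensorProduct.induction_on with
    | zero => simp
    | tmul b m =>
      rw [LinearMap.rTensor_tmul, resEquiv_tmul, resEquiv_tmul, LinearMap.rTensor_tmul]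
      rfl
    | add a b ha hb => simp only [map_add, ha, hb]
  refine IsKer.adequate (ι := mkHom f hf) (g := g') ⟨fun B => ?_, fun B y => ?_⟩
  · exact (resEquiv M B).injective.comp (hι.inj (res (A := A) B))
  · have hsq : ∀ w, g'.hom.lTensor (B : Type u) (resEquiv M B w) = resEquiv N B (g.hom.lTensor (res (A := A) B : Type u) w) := by
      intro w
      induction w using TensorProduct.induction_on with
      | zero => simp
      | tmul b m =>
        rw [LinearMap.lTensor_tmul, resEquiv_tmul, resEquiv_tmul]
        rfl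
      | add a b ha hb => simp only [map_add, ha, hb]
    constructor
    · intro hy
      obtain ⟨w, rfl⟩ := (resEquiv M B).surjective y
      obtain ⟨x, hx⟩ := (hι.exact (res (A := A) B) w).mp ((resEquiv N B).injective (((hsq w).symm.trans hy).trans (map_zero _).symm))
      exact ⟨x, congrArg (resEquiv M B) hx⟩
    · rintro ⟨x, rfl⟩
      refine (hsq _).trans ?_
      rw [show g.hom.lTensor (res (A := A) B : Type u) (ap ι (res (A := A) B) x) = 0 from
        (hι.exact (res (A := A) B)).apply_apply_eq_zero x, map_zero]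
      rfl

end Restr

section Push

/-- The base change of an algebra. -/
abbrev bch (B : _root_.Adeq.Alg A) : _root_.Adeq.Alg A' := (_root_.Adeq.Alg.baseChange A A').obj B

variable (M : ModuleCat.{u + 1} A')

/-- A module over the larger ring, seen over the smaller one. -/
noncomputable abbrev resMod : ModuleCat.{u + 1} A := (ModuleCat.restrictScalars (algebraMap A A')).obj M

/-- The comparison `(A' ⊗[A] B) ⊗[A'] M' → B ⊗[A] M'`. -/
noncomputable def pushEquiv (B : _root_.Adeq.Alg A) :
    (A' ⊗[A] (B : Type u)) ⊗[A'] M ≃+ (B : Type u) ⊗[A] resMod (A := A) M :=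
  letI : Module A M := Module.compHom M (algebraMap A A')
  haveI : IsScalarTower A A' M := IsScalarTower.of_compHom A A' M
  ((TensorProduct.comm A' (A' ⊗[A] (B : Type u)) M).toAddEquiv.trans
    (TensorProduct.AlgebraTensorModule.cancelBaseChange A A' A' M (B : Type u)).toAddEquiv).trans
    (TensorProduct.comm A M (B : Type u)).toAddEquiv

lemma pushEquiv_tmul (B : _root_.Adeq.Alg A) (a : A') (b : B) (m : M) :
    pushEquiv M B ((a ⊗ₜ[A] b) ⊗ₜ[A'] m) = b ⊗ₜ[A] (show resMod (A := A) M from (a • m : M)) := rfl

lemma pushEquiv_smul (B : _root_.Adeq.Alg A) (c : B) (w : (A' ⊗[A] (B : Type u)) ⊗[A'] M) :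
    pushEquiv M B (((1 : A') ⊗ₜ[A] c : A' ⊗[A] (B : Type u)) • w) = c • pushEquiv M B w := by
  induction w using TensorProduct.induction_on with
  | zero => rw [smul_zero, map_zero, smul_zero]
  | tmul t m =>
    induction t using TensorProduct.induction_on with
    | zero => simp
    | tmul a b =>
      rw [TensorProduct.smul_tmul', smul_eq_mul, Algebra.TensorProduct.tmul_mul_tmul, one_mul, pushEquiv_tmul,
        pushEquiv_tmul, TensorProduct.smul_tmul', smul_eq_mul]
    | add a b ha hb => rw [TensorProduct.add_tmul, smul_add, map_add, map_add, smul_add, ha, hb]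
  | add a b ha hb => rw [smul_add, map_add, map_add, smul_add, ha, hb]

theorem adequate_push {F' : _root_.Adeq.MVF A'} (hF : _root_.Adeq.adequate A' F') :
    _root_.Adeq.adequate A ((_root_.Adeq.push A A').obj F') := by
  obtain ⟨M, N, g, ι, hι⟩ := exists_isKer hF
  let g' : resMod (A := A) M ⟶ resMod (A := A) N := (ModuleCat.restrictScalars (algebraMap A A')).map g
  let f : ∀ B : _root_.Adeq.Alg A, Val ((_root_.Adeq.push A A').obj F') B →ₗ[(B : Type u)] Val (U (resMod (A := A) M)) B :=
    fun B =>
    { toFun := fun x => pushEquiv M B (ap ι (bch B) x)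
      map_add' := fun x y => (congrArg (pushEquiv M B) (map_add (ap ι (bch B)) x y)).trans (map_add _ _ _)
      map_smul' := fun c x => (congrArg (pushEquiv M B)
        (map_smul (ap ι (bch B)) ((1 : A') ⊗ₜ[A] c : bch (A' := A') B) (show Val F' (bch B) from x))).trans (pushEquiv_smul M B c _) }
  have hf : ∀ ⦃B B' : _root_.Adeq.Alg A⦄ (h : B ⟶ B') (x : Val ((_root_.Adeq.push A A').obj F') B),
      f B' (mp ((_root_.Adeq.push A A').obj F') h x) = mp (U (resMod (A := A) M)) h (f B x) := by
    intro B B' h x
    show pushEquiv M B' (ap ι (bch B') (mp F' ((_root_.Adeq.Alg.baseChange A A').map h) x)) =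
      h.hom.toLinearMap.rTensor (resMod (A := A) M) (pushEquiv M B (ap ι (bch B) x))
    rw [ap_mp, mp_U]
    generalize (ap ι (bch B) x : (A' ⊗[A] (B : Type u)) ⊗[A'] M) = w
    induction w using TensorProduct.induction_on with
    | zero => simp
    | tmul t m =>
      induction t using TensorProduct.induction_on with
      | zero => simp
      | tmul a b =>
        rw [pushEquiv_tmul, LinearMap.rTensor_tmul, LinearMap.rTensor_tmul]
        exact pushEquiv_tmul M B' a (h.hom b) m
      | add a b ha hb => simp only [TensorProduct.add_tmul, map_add, ha, hb]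
    | add a b ha hb => simp only [map_add, ha, hb]
  have hsq : ∀ (B : _root_.Adeq.Alg A) (w : (A' ⊗[A] (B : Type u)) ⊗[A'] M),
      g'.hom.lTensor (B : Type u) (pushEquiv M B w) = pushEquiv N B (g.hom.lTensor (A' ⊗[A] (B : Type u)) w) := by
    intro B w
    induction w using TensorProduct.induction_on with
    | zero => simp
    | tmul t m =>
      induction t using TensorProduct.induction_on with
      | zero => simp
      | tmul a b =>
        rw [pushEquiv_tmul, LinearMap.lTensor_tmul, LinearMap.lTensor_tmul, pushEquiv_tmul]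
        exact congrArg (fun v : resMod (A := A) N => (b : (B : Type u)) ⊗ₜ[A] v) (g.hom.map_smul a m)
      | add a b ha hb => simp only [TensorProduct.add_tmul, map_add, ha, hb]
    | add a b ha hb => simp only [map_add, ha, hb]
  refine IsKer.adequate (ι := mkHom f hf) (g := g') ⟨fun B => (pushEquiv M B).injective.comp (hι.inj (bch B)),
    fun B y => ?_⟩
  constructor
  · intro hy
    obtain ⟨w, rfl⟩ := (pushEquiv M B).surjective y
    obtain ⟨x, hx⟩ := (hι.exact (bch B) w).mp
      ((pushEquiv N B).injective (((hsq B w).symm.trans hy).trans (map_zero _).symm))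
    exact ⟨x, congrArg (pushEquiv M B) hx⟩
  · rintro ⟨x, rfl⟩
    refine (hsq B _).trans ?_
    rw [show g.hom.lTensor (A' ⊗[A] (B : Type u)) (ap ι (bch B) x) = 0 from
      (hι.exact (bch B)).apply_apply_eq_zero x, map_zero]
    rfl

end Push

end Groth.Agent.H54.Adeq
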