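import Groth.Agent.H54.Adeq.Dual
import Groth.Agent.H54.Adeq.Colim
import Mathlib.CategoryTheory.Limits.Shapes.Pullback.IsPullback.Kernels
import Mathlib.CategoryTheory.Abelian.Basic

/-!
# Linearly adequate functors are projective relative to adequate kernels
-/

universe u

open CategoryTheory Limits TensorProduct TrivSqZeroExt

namespace Groth.Agent.H54.Adeq

variable {A : Type u} [CommRing A] {P P' : ModuleCat.{u + 1} A} {n m : ℕ} {e : Module.Basis (Fin n) A P}
  {e' : Module.Basis (Fin m) A P'} {φ₀ : P ⟶ P'}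

lemma hom_ext_xi {B : _root_.Adeq.Alg A} (f g : B0 e e' φ₀ ⟶ B)
    (h : ∀ j, f.hom (xi e e' φ₀ j) = g.hom (xi e e' φ₀ j)) : f = g := by
  refine CommAlgCat.hom_ext (Ideal.Quotient.algHom_ext _ (MvPolynomial.algHom_ext fun j => ?_))
  exact h j

variable (e e' φ₀) in
/-- The map sending the universal coordinates to zero. -/
noncomputable def zc (B : _root_.Adeq.Alg A) : B0 e e' φ₀ ⟶ B :=
  classify e e' φ₀ (fun _ => 0) fun _ => by simp

lemma zc_xi (B : _root_.Adeq.Alg A) (j : Fin n) : (zc e e' φ₀ B).hom (xi e e' φ₀ j) = 0 :=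
  classify_xi e e' φ₀ _ _ j

lemma zc_comp {B C : _root_.Adeq.Alg A} (f : B ⟶ C) : zc e e' φ₀ B ≫ f = zc e e' φ₀ C :=
  hom_ext_xi _ _ fun j => by
    show f.hom ((zc e e' φ₀ B).hom (xi e e' φ₀ j)) = _
    rw [zc_xi, zc_xi, map_zero]

variable {L : _root_.Adeq.MVF A} {ι : L ⟶ U P} (hL : IsKer ι φ₀)
  {F G : _root_.Adeq.MVF A} {M N : ModuleCat.{u + 1} A} {ιF : F ⟶ U M} {gF : M ⟶ N} (hF : IsKer ιF gF)
  (κ : F ⟶ G) (p : G ⟶ L)

/-- The coordinates of a value. -/
noncomputable def co (ι : L ⟶ U P) (e : Module.Basis (Fin n) A P) {B : _root_.Adeq.Alg A} (x : Val L B) (j : Fin n) : B :=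
  crd e B j (ap ι B x)

lemma ι_eq_sum {B : _root_.Adeq.Alg A} (x : Val L B) :
    ap ι B x = (∑ j, co ι e x j ⊗ₜ[A] e j : (B : Type u) ⊗[A] P) := (sum_crd e B _).symm

lemma crd_smul {P : ModuleCat.{u + 1} A} {n : ℕ} (e : Module.Basis (Fin n) A P) (B : _root_.Adeq.Alg A) (j : Fin n)
    (c : B) (w : (B : Type u) ⊗[A] P) : crd e B j (c • w) = c * crd e B j w := by
  induction w using TensorProduct.induction_on with
  | zero => simp
  | tmul b v => rw [TensorProduct.smul_tmul', crd_tmul, crd_tmul, smul_eq_mul, mul_smul_comm]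
  | add a b ha hb => rw [smul_add, map_add, map_add, ha, hb, mul_add]

lemma co_add {B : _root_.Adeq.Alg A} (x x' : Val L B) (j : Fin n) :
    co ι e (x + x') j = co ι e x j + co ι e x' j :=
  (congrArg (crd e B j) (map_add (ap ι B) x x')).trans (map_add (crd e B j) _ _)

include hL

lemma exists_cl {k : Val L (B0 e e' φ₀)}
    (hk : ap ι (B0 e e' φ₀) k = (∑ j, xi e e' φ₀ j ⊗ₜ[A] e j : (B0 e e' φ₀ : Type u) ⊗[A] P))
    {B : _root_.Adeq.Alg A} (x : Val L B) :
    ∃ f : B0 e e' φ₀ ⟶ B, mp L f k = x ∧ ∀ j, f.hom (xi e e' φ₀ j) = co ι e x j :=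
  exists_classify hL hk x (co ι e x) (ι_eq_sum x)

lemma mp_zc {k : Val L (B0 e e' φ₀)}
    (hk : ap ι (B0 e e' φ₀) k = (∑ j, xi e e' φ₀ j ⊗ₜ[A] e j : (B0 e e' φ₀ : Type u) ⊗[A] P))
    (B : _root_.Adeq.Alg A) : mp L (zc e e' φ₀ B) k = 0 := by
  apply hL.inj
  rw [map_zero, ap_mp, hk, mp_U, map_sum]
  refine Finset.sum_eq_zero fun j _ => ?_
  rw [LinearMap.rTensor_tmul, AlgHom.toLinearMap_apply, zc_xi, TensorProduct.zero_tmul]
  rfl

include hF

include e e' in
/-- An extension of a linearly adequate functor by an adequate one splits. -/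
theorem exists_section (hκ : ∀ B, Function.Injective (ap κ B)) (hex : ∀ B, Function.Exact (ap κ B) (ap p B))
    (hp : ∀ B, Function.Surjective (ap p B)) : ∃ s : L ⟶ G, s ≫ p = 𝟙 L := by
  obtain ⟨k, hk⟩ := exists_univ e e' φ₀ hL
  obtain ⟨η, hη⟩ := hp _ k
  have hκ0 : ∀ {B : _root_.Adeq.Alg A} (z : Val F B), ap p B (ap κ B z) = 0 := fun z => (hex _).apply_apply_eq_zero z
  -- the infinitesimal variation of a lift
  let B₀ := B0 e e' φ₀
  let fd : dual B₀ ⟶ B₀ := dlift (𝟙 B₀) 0 (mul_zero 0)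
  have hscl : scl e e' φ₀ ≫ fd = zc e e' φ₀ B₀ := hom_ext_xi _ _ fun j => by
    show fd.hom ((scl e e' φ₀).hom (xi e e' φ₀ j)) = _
    rw [scl, classify_xi, zc_xi]
    exact (dlift_apply _ _ _ _).trans (by simp)
  have hεk : mp L (scl e e' φ₀) k = emul L B₀ k := by
    rw [mp_scl e e' φ₀ hL hk]
    rfl
  have hδ : ap p (dual B₀) (mp G (scl e e' φ₀) η - mp G (zc e e' φ₀ (dual B₀)) η - emul G B₀ η) = 0 := by
    rw [map_sub, map_sub, ap_mp, ap_mp, ap_emul, hη, hεk, mp_zc hL hk, sub_zero, sub_self]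
  obtain ⟨f', hf'⟩ := (hex _ _).mp hδ
  have hfd : mp F fd f' = 0 := by
    apply hκ
    rw [map_zero, ap_mp, hf', map_sub, map_sub, ← mp_comp, ← mp_comp, hscl, zc_comp, sub_self, zero_sub,
      mp_dlift_emul]
    exact neg_eq_zero.2 (val_zero_smul _)
  obtain ⟨y, hy⟩ := hF.exists_emul f' hfd
  let η' : Val G B₀ := η + ap κ B₀ y
  have hη' : ap p B₀ η' = k := by rw [map_add, hκ0, add_zero, hη]
  have hd : mp G (scl e e' φ₀) η - mp G (zc e e' φ₀ (dual B₀)) η = emul G B₀ η' := by
    rw [map_add, ← ap_emul, hy, hf']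
    abel
  have key : ∀ {B C : _root_.Adeq.Alg A} (f : B0 e e' φ₀ ⟶ B) (g : B ⟶ C) (c : C) (hc : c * c = 0)
      (h : B0 e e' φ₀ ⟶ C), (∀ j, h.hom (xi e e' φ₀ j) = g.hom (f.hom (xi e e' φ₀ j)) * c) →
      c • mp G g (mp G f η') = mp G h η - mp G (zc e e' φ₀ C) η := by
    intro B C f g c hc h hh
    have h1 : scl e e' φ₀ ≫ dlift (f ≫ g) c hc = h := hom_ext_xi _ _ fun j => by
      show (dlift (f ≫ g) c hc).hom ((scl e e' φ₀).hom (xi e e' φ₀ j)) = _
      rw [scl, classify_xi, hh]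
      refine (dlift_apply _ _ _ _).trans ?_
      show (f ≫ g).hom (fst (inr (xi e e' φ₀ j) : DualNumber (R0 e e' φ₀))) +
        (f ≫ g).hom (snd (inr (xi e e' φ₀ j) : DualNumber (R0 e e' φ₀))) * c = _
      rw [fst_inr, snd_inr, map_zero, zero_add]
      rfl
    have h2 := congrArg (mp G (dlift (f ≫ g) c hc)) hd
    rw [mp_dlift_emul, map_sub, ← mp_comp, ← mp_comp, h1, zc_comp, mp_comp f g] at h2
    exact h2.symm
  have hinj : ∀ B : _root_.Adeq.Alg A, Function.Injective (emul G B) := fun B => by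
    refine (injective_iff_map_eq_zero _).2 fun v hv => ?_
    have h1 : ap p B v = 0 := hL.emul_injective B (by rw [← ap_emul, hv, map_zero, map_zero])
    obtain ⟨z, rfl⟩ := (hex B v).mp h1
    rw [← ap_emul] at hv
    rw [hF.emul_injective B ((hκ _ (hv.trans (map_zero _).symm)).trans (map_zero _).symm), map_zero]
  choose cl hcl hcl' using fun (B : _root_.Adeq.Alg A) (x : Val L B) => exists_cl hL hk x
  let s : ∀ B : _root_.Adeq.Alg A, Val L B → Val G B := fun B x => mp G (cl B x) η'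
  have hpε : ∀ (B : _root_.Adeq.Alg A) (x : Val L B), ap p B (s B x) = x := fun B x => by
    rw [ap_mp, hη', hcl]
  have hsmul : ∀ (B : _root_.Adeq.Alg A) (c : B) (x : Val L B), s B (c • x) = c • s B x := by
    intro B c x
    apply hinj B
    have hco : ∀ j, co ι e (c • x) j = c * co ι e x j := fun j =>
      (congrArg (crd e B j) (map_smul (ap ι B) c x)).trans (crd_smul e B j c _)
    let hb : B0 e e' φ₀ ⟶ dual B := scl e e' φ₀ ≫ dlift (cl B (c • x) ≫ dinl B) (ε' B) DualNumber.eps_mul_eps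
    have hhb : ∀ j, hb.hom (xi e e' φ₀ j) = (dinl B).hom (co ι e (c • x) j) * ε' B := fun j => by
      show (dlift (cl B (c • x) ≫ dinl B) (ε' B) DualNumber.eps_mul_eps).hom ((scl e e' φ₀).hom (xi e e' φ₀ j)) = _
      rw [scl, classify_xi]
      refine (dlift_apply _ _ _ _).trans ?_
      simp only [fst_inr, snd_inr, map_zero, zero_add, ← hcl']
      rfl
    have k1 := key (cl B (c • x)) (dinl B) (ε' B) DualNumber.eps_mul_eps hb fun j => by rw [hhb, hcl']
    have k2 := key (cl B x) (dinl B) ((dinl B).hom c * ε' B)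
      (by rw [mul_mul_mul_comm, show ε' B * ε' B = 0 from DualNumber.eps_mul_eps, mul_zero]) hb
      fun j => by rw [hhb, hcl', hco, map_mul]; ring
    show ε' B • mp G (dinl B) (mp G (cl B (c • x)) η') = ε' B • mp G (dinl B) (c • mp G (cl B x) η')
    rw [k1, ← k2, mp_smul, smul_smul, mul_comm]
  have hadd : ∀ (B : _root_.Adeq.Alg A) (x x' : Val L B), s B (x + x') = s B x + s B x' := by
    intro B x x'
    apply hinj B
    have hb0 : ∀ i, ∑ j, e'.repr (φ₀ (e j)) i • (inr (co ι e x j, co ι e x' j) : dual2 B) = 0 := by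
      intro i
      have h1 := (lTensor_eq_zero_iff (e := e) (e' := e') (φ₀ := φ₀) (co ι e x)).1 (by
        rw [← ι_eq_sum x]; exact (hL.exact B).apply_apply_eq_zero x) i
      have h2 := (lTensor_eq_zero_iff (e := e) (e' := e') (φ₀ := φ₀) (co ι e x')).1 (by
        rw [← ι_eq_sum x']; exact (hL.exact B).apply_apply_eq_zero x') i
      calc _ = (inrHom B (Prod (B : Type u) (B : Type u)))
            (∑ j, e'.repr (φ₀ (e j)) i • (co ι e x j, co ι e x' j)) := by
            rw [map_sum]; exact Finset.sum_congr rfl fun j _ => (inr_smul _ _ _).symm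
        _ = 0 := by
          rw [show ∑ j, e'.repr (φ₀ (e j)) i • (co ι e x j, co ι e x' j) = (0, 0) from
            Prod.ext (by simpa [Prod.fst_sum] using h1) (by simpa [Prod.snd_sum] using h2)]
          exact map_zero _
    let h12 : B0 e e' φ₀ ⟶ dual2 B := classify e e' φ₀ _ hb0
    let ε1 : dual2 B := (inr ((1 : B), (0 : B)) : TrivSqZeroExt B (Prod (B : Type u) (B : Type u)))
    let ε2 : dual2 B := (inr ((0 : B), (1 : B)) : TrivSqZeroExt B (Prod (B : Type u) (B : Type u)))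
    let W : Val G (dual2 B) := mp G h12 η - mp G (zc e e' φ₀ (dual2 B)) η -
      ε1 • mp G (dinl2 B) (s B x) - ε2 • mp G (dinl2 B) (s B x')
    have hpW : ap p (dual2 B) W = 0 := by
      show ap p (dual2 B) (mp G h12 η - mp G (zc e e' φ₀ (dual2 B)) η -
        ε1 • mp G (dinl2 B) (s B x) - ε2 • mp G (dinl2 B) (s B x')) = 0
      rw [map_sub, map_sub, map_sub, map_smul, map_smul, ap_mp p (dinl2 B) (s B x), ap_mp p (dinl2 B) (s B x'),
        hpε, hpε, ap_mp p h12, ap_mp p (zc e e' φ₀ (dual2 B)), hη, mp_zc hL hk, sub_zero]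
      apply hL.inj
      rw [map_zero, map_sub, map_sub, map_smul, map_smul, ap_mp, ap_mp, ap_mp, hk, ι_eq_sum (e := e) x, ι_eq_sum (e := e) x',
        mp_U, mp_U, mp_U, map_sum, map_sum, map_sum]
      show (∑ j, _ : (dual2 B : Type u) ⊗[A] P) - (ε1 • (∑ j, _ : (dual2 B : Type u) ⊗[A] P)) -
        (ε2 • (∑ j, _ : (dual2 B : Type u) ⊗[A] P)) = 0
      rw [Finset.smul_sum, Finset.smul_sum, ← Finset.sum_sub_distrib, ← Finset.sum_sub_distrib]
      refine Finset.sum_eq_zero fun j _ => ?_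
      rw [LinearMap.rTensor_tmul, LinearMap.rTensor_tmul, LinearMap.rTensor_tmul, TensorProduct.smul_tmul',
        TensorProduct.smul_tmul', AlgHom.toLinearMap_apply, AlgHom.toLinearMap_apply, AlgHom.toLinearMap_apply,
        classify_xi, ← TensorProduct.sub_tmul, ← TensorProduct.sub_tmul]
      refine Eq.trans ?_ (TensorProduct.zero_tmul _ (e j))
      congr 1
      show (inr (co ι e x j, co ι e x' j) : TrivSqZeroExt B (Prod (B : Type u) (B : Type u))) -
        inr ((1 : B), (0 : B)) * inl (co ι e x j) - inr ((0 : B), (1 : B)) * inl (co ι e x' j) = 0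
      ext <;> simp
    obtain ⟨w, hw⟩ := (hex _ W).mp hpW
    have hpr : ∀ (l : Prod (B : Type u) (B : Type u) →ₗ[B] B),
        mp G (pr B l) W = (mp G (h12 ≫ pr B l) η - mp G (zc e e' φ₀ (dual B)) η) -
          ((pr B l).hom ε1) • mp G (dinl B) (s B x) - ((pr B l).hom ε2) • mp G (dinl B) (s B x') := fun l => by
      show mp G (pr B l) (mp G h12 η - mp G (zc e e' φ₀ (dual2 B)) η -
        ε1 • mp G (dinl2 B) (s B x) - ε2 • mp G (dinl2 B) (s B x')) = _
      rw [map_sub, map_sub, map_sub, mp_smul (pr B l) ε1, mp_smul (pr B l) ε2, ← mp_comp h12 (pr B l),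
        ← mp_comp (zc e e' φ₀ (dual2 B)) (pr B l), ← mp_comp (dinl2 B) (pr B l) (s B x),
        ← mp_comp (dinl2 B) (pr B l) (s B x'), dinl2_pr, zc_comp]
    have hε : ∀ (l : Prod (B : Type u) (B : Type u) →ₗ[B] B) (v : Prod (B : Type u) (B : Type u)),
        (pr B l).hom (inr v : TrivSqZeroExt B (Prod (B : Type u) (B : Type u))) = (inr (l v) : DualNumber B) :=
      fun l v => TrivSqZeroExt.map_inr l v
    have hh : ∀ (l : Prod (B : Type u) (B : Type u) →ₗ[B] B) (j),
        (h12 ≫ pr B l).hom (xi e e' φ₀ j) = (dinl B).hom (l (co ι e x j, co ι e x' j)) * ε' B := fun l j => by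
      show (pr B l).hom (h12.hom (xi e e' φ₀ j)) = _
      rw [classify_xi, hε]
      show (inr _ : DualNumber B) = inl _ * DualNumber.eps
      ext <;> simp
    have e10 : (inr (1 : B) : DualNumber B) = ε' B := rfl
    have e00 : (inr (0 : B) : DualNumber B) = (0 : dual B) := inr_zero _
    have hw0 : w = 0 := by
      refine hF.eq_zero_of_pr w ?_ ?_
      · apply hκ
        rw [map_zero, ap_mp, hw, hpr, ← key (cl B x) (dinl B) (ε' B) DualNumber.eps_mul_eps _
          (fun j => by rw [hh, hcl']; rfl), hε, hε]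
        show _ - (inr (1 : B) : DualNumber B) • _ - (inr (0 : B) : DualNumber B) • _ = _
        rw [e10, e00, zero_smul, sub_zero, sub_self]
      · apply hκ
        rw [map_zero, ap_mp, hw, hpr, ← key (cl B x') (dinl B) (ε' B) DualNumber.eps_mul_eps _
          (fun j => by rw [hh, hcl']; rfl), hε, hε]
        show _ - (inr (0 : B) : DualNumber B) • _ - (inr (1 : B) : DualNumber B) • _ = _
        rw [e10, e00, zero_smul, sub_zero, sub_self]
    let l : Prod (B : Type u) (B : Type u) →ₗ[B] B := LinearMap.fst B B B + LinearMap.snd B B B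
    have hsum := hpr l
    rw [← hw, hw0, map_zero, map_zero, hε, hε, ← key (cl B (x + x')) (dinl B) (ε' B) DualNumber.eps_mul_eps _
      (fun j => by rw [hh, hcl', co_add]; simp [l])] at hsum
    show ε' B • mp G (dinl B) (mp G (cl B (x + x')) η') = emul G B (s B x + s B x')
    rw [show l ((1 : B), (0 : B)) = 1 by simp [l], show l ((0 : B), (1 : B)) = 1 by simp [l], e10, sub_sub,
      eq_comm, sub_eq_zero] at hsum
    exact hsum.trans (map_add (emul G B) _ _).symm
  refine ⟨mkHom (fun B => { toFun := s B, map_add' := hadd B, map_smul' := hsmul B }) ?_, hom_ext fun B x => hpε B x⟩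
  intro B B' g x
  show mp G (cl B' (mp L g x)) η' = mp G g (mp G (cl B x) η')
  rw [← mp_comp]
  refine congrArg (fun f => mp G f η') (hom_ext_xi _ _ fun j => ?_)
  show _ = g.hom ((cl B x).hom (xi e e' φ₀ j))
  rw [hcl', hcl']
  unfold co
  rw [ap_mp, mp_U]
  generalize (ap ι B x : (B : Type u) ⊗[A] P) = w
  induction w using TensorProduct.induction_on with
  | zero => simp
  | tmul b v => rw [LinearMap.rTensor_tmul, crd_tmul, crd_tmul, AlgHom.toLinearMap_apply, map_smul]
  | add a b ha hb => simp only [map_add, ha, hb]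

omit hL hF

/-- Morphisms from linearly adequate functors lift along epimorphisms with adequate kernel. -/
theorem exists_lift_of_epi (d : Datum A) {G H : _root_.Adeq.MVF A} (q : G ⟶ H) [Epi q]
    (hK : _root_.Adeq.adequate A (kernel q)) (χ : d.L ⟶ H) : ∃ γ : d.L ⟶ G, γ ≫ q = χ := by
  have sq := IsPullback.of_hasPullback q χ
  have := isIso_kernel_map_of_isPullback sq.flip
  have hK' : _root_.Adeq.adequate A (kernel (pullback.snd q χ)) :=
    (_root_.Adeq.adequate A).prop_of_iso (asIso (kernel.map _ _ _ _ sq.flip.w)).symm hK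
  obtain ⟨M, N, g, ιF, hF⟩ := exists_isKer hK'
  have : Epi (pullback.snd q χ) := inferInstance
  obtain ⟨s, hs⟩ := exists_section (e := d.basis) (e' := d.basis') (isKer_kernel d.hom) hF
    (kernel.ι (pullback.snd q χ)) (pullback.snd q χ) (fun B => injective_ap _ B)
    (fun B y => ⟨exists_kernel_preimage _ y, fun ⟨z, hz⟩ => by rw [← hz, ← ap_comp, kernel.condition, ap_zero]⟩)
    (fun B => surjective_ap _ B)
  exact ⟨s ≫ pullback.fst q χ, by rw [Category.assoc, pullback.condition, ← Category.assoc, hs, Category.id_comp]⟩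

end Groth.Agent.H54.Adeq
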